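import Mathlib

/-! An essentially finite type extension of DVRs is algebraic over lifts of a residual transcendence basis. -/

set_option autoImplicit false
set_option linter.style.haveILetI false
set_option linter.unusedSectionVars false
universe u

namespace Groth.Agent.EtRam7.Sol

open IsLocalRing

section dominated

variable {V B C : Type u} [CommRing V] [IsLocalRing V] [CommRing B] [IsLocalRing B] [CommRing C]
  [Algebra V B] [Algebra V C] [IsLocalHom (algebraMap V B)]

/-- With algebraic residue extension, the closed point of `B` induces a maximal ideal. -/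
theorem isMaximal_comap_maximalIdeal [Algebra.IsAlgebraic (ResidueField V) (ResidueField B)] (i : C →ₐ[V] B) :
    ((maximalIdeal B).comap i.toRingHom).IsMaximal := by
  refine Ideal.isMaximal_iff.2 ⟨fun h => ?_, fun J x hqJ hxq hxJ => ?_⟩
  · have h1 : i 1 ∈ maximalIdeal B := h
    rw [map_one] at h1
    exact (maximalIdeal.isMaximal B).ne_top ((Ideal.eq_top_iff_one _).2 h1)
  have hz : residue B (i x) ≠ 0 := fun h => hxq ((residue_eq_zero_iff _).1 h)
  have hzi : (residue B (i x))⁻¹ ∈ Algebra.adjoin (ResidueField V) {residue B (i x)} := by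
    rw [← IntermediateField.adjoin_simple_toSubalgebra_of_isAlgebraic (Algebra.IsAlgebraic.isAlgebraic _)]
    exact (inv_mem (IntermediateField.mem_adjoin_simple_self _ _) :
      (residue B (i x))⁻¹ ∈ IntermediateField.adjoin (ResidueField V) {residue B (i x)})
  have hlift : ∀ w ∈ Algebra.adjoin (ResidueField V) {residue B (i x)}, ∃ y : C, residue B (i y) = w := by
    intro w hw
    induction hw using Algebra.adjoin_induction with
    | mem w hw => exact ⟨x, (Set.mem_singleton_iff.1 hw).symm⟩
    | algebraMap c =>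
      obtain ⟨v, rfl⟩ := residue_surjective c
      exact ⟨algebraMap V C v, by rw [i.commutes]; rfl⟩
    | add a b _ _ ha hb =>
      obtain ⟨a, rfl⟩ := ha; obtain ⟨b, rfl⟩ := hb
      exact ⟨a + b, by simp⟩
    | mul a b _ _ ha hb =>
      obtain ⟨a, rfl⟩ := ha; obtain ⟨b, rfl⟩ := hb
      exact ⟨a * b, by simp⟩
  obtain ⟨y, hy⟩ := hlift _ hzi
  have h1 : x * y - 1 ∈ (maximalIdeal B).comap i.toRingHom := by
    show i (x * y - 1) ∈ maximalIdeal B
    rw [← residue_eq_zero_iff]
    simp [hy, mul_inv_cancel₀ hz]
  have h2 := Ideal.sub_mem J (J.mul_mem_right y hxJ) (hqJ h1)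
  rwa [sub_sub_cancel] at h2

set_option maxHeartbeats 1000000 in
/-- An algebra of finite type dominated by a DVR, closed and isolated in its fibre, is generically integral. -/
theorem exists_integral_den [IsNoetherianRing V] [IsDomain B] [IsDiscreteValuationRing B] [Algebra.FiniteType V C]
    [Algebra.IsAlgebraic (ResidueField V) (ResidueField B)] (i : C →ₐ[V] B) (hi : Function.Injective i)
    (hfrac : ∀ x : B, ∃ a b : C, IsUnit (i b) ∧ x * i b = i a)
    {π : V} (hπ : π ∈ maximalIdeal V) (hπ0 : algebraMap V B π ≠ 0) (y : B) :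
    ∃ a b : B, b ≠ 0 ∧ y * b = a ∧ IsIntegral V a ∧ IsIntegral V b := by
  classical
  haveI : IsNoetherianRing C := Algebra.FiniteType.isNoetherianRing V C
  let q : Ideal C := (maximalIdeal B).comap i.toRingHom
  have hqmax : q.IsMaximal := isMaximal_comap_maximalIdeal i
  haveI := hqmax.isPrime
  obtain ⟨σ, hσ⟩ := IsDiscreteValuationRing.exists_irreducible B
  obtain ⟨e, ue, hue⟩ := IsDiscreteValuationRing.eq_unit_mul_pow_irreducible hπ0 hσ
  let qP : PrimeSpectrum C := ⟨q, hqmax.isPrime⟩
  let I : Ideal C := (maximalIdeal V).map (algebraMap V C)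
  have hIq : ∀ P : Ideal C, P.IsPrime → I ≤ P → P ≤ q → P = q := by
    intro P hP hIP hPq
    refine le_antisymm hPq fun x hx => ?_
    have hx' : i x ∈ maximalIdeal B := hx
    obtain ⟨c, hc⟩ := Ideal.mem_span_singleton'.1 (hσ.maximalIdeal_eq ▸ hx' : i x ∈ Ideal.span {σ})
    have hxe : i x ^ e = algebraMap V B π * (↑ue⁻¹ * c ^ e) := by
      rw [← hc, mul_pow, hue]
      linear_combination (-(σ ^ e * c ^ e)) * ue.mul_inv
    obtain ⟨a, b, hb, hab⟩ := hfrac (↑ue⁻¹ * c ^ e)
    have h1 : b * x ^ e = algebraMap V C π * a := by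
      apply hi
      rw [map_mul, map_pow, map_mul, i.commutes, hxe, ← hab]
      ring
    have h2 : b * x ^ e ∈ P := h1 ▸ P.mul_mem_right _ (hIP (Ideal.mem_map_of_mem _ hπ))
    exact hP.mem_of_pow_mem e ((hP.mem_or_mem h2).resolve_left fun h => (hPq h : i b ∈ maximalIdeal B) hb)
  have hIle : I ≤ q := Ideal.map_le_iff_le_comap.2 fun v hv => by
    show i (algebraMap V C v) ∈ maximalIdeal B
    rw [i.commutes]
    exact map_nonunit _ _ hv
  have hopen : IsOpen (X := PrimeSpectrum.comap (algebraMap V C) ⁻¹' {qP.comap (algebraMap V C)}) {⟨qP, rfl⟩} := by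
    have hfinP := Ideal.finite_minimalPrimes_of_isNoetherianRing C I
    obtain ⟨f, hfq, hf⟩ : ∃ f : C, f ∉ q ∧ ∀ P ∈ I.minimalPrimes, P ≠ q → f ∈ P := by
      choose g hg using fun P : Ideal C => show ∃ g : C, g ∉ q ∧ (P ∈ I.minimalPrimes → P ≠ q → g ∈ P) from by
        by_cases h : P ∈ I.minimalPrimes ∧ P ≠ q
        · have hPq : ¬ P ≤ q := fun hle => h.2 (hIq P h.1.1.1 h.1.1.2 hle)
          obtain ⟨g, hg1, hg2⟩ := SetLike.not_le_iff_exists.1 hPq
          exact ⟨g, hg2, fun _ _ => hg1⟩
        · exact ⟨1, fun h1 => hqmax.ne_top ((Ideal.eq_top_iff_one q).2 h1), fun h1 h2 => absurd ⟨h1, h2⟩ h⟩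
      refine ⟨∏ P ∈ hfinP.toFinset, g P, fun hmem => ?_, fun P hP hne => ?_⟩
      · obtain ⟨P, -, hP⟩ := (Ideal.IsPrime.prod_mem_iff (hp := hqmax.isPrime)).1 hmem
        exact (hg P).1 hP
      · exact Ideal.mem_of_dvd _ (Finset.dvd_prod_of_mem g (hfinP.mem_toFinset.2 hP)) ((hg P).2 hP hne)
    have : ({⟨qP, rfl⟩} : Set (PrimeSpectrum.comap (algebraMap V C) ⁻¹' {qP.comap (algebraMap V C)})) =
        Subtype.val ⁻¹' (PrimeSpectrum.basicOpen f : Set (PrimeSpectrum C)) := by
      ext ⟨x, hx⟩
      refine ⟨fun h => ?_, fun h => ?_⟩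
      · rw [Set.mem_singleton_iff, Subtype.mk.injEq] at h
        rw [Set.mem_preimage]; show f ∉ x.asIdeal
        rw [h]; exact hfq
      · have hIx : I ≤ x.asIdeal := Ideal.map_le_iff_le_comap.2 (by
          have h1 : x.comap (algebraMap V C) = qP.comap (algebraMap V C) := hx
          have h2 : x.asIdeal.comap (algebraMap V C) = q.comap (algebraMap V C) := congrArg PrimeSpectrum.asIdeal h1
          rw [h2]; exact Ideal.map_le_iff_le_comap.1 hIle)
        obtain ⟨P, hP, hPx⟩ := Ideal.exists_minimalPrimes_le hIx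
        have hPq : P = q := by
          by_contra hne
          exact h (hPx (hf P hP hne))
        rw [Set.mem_singleton_iff, Subtype.mk.injEq]
        exact PrimeSpectrum.ext (hqmax.eq_of_le x.2.ne_top (hPq ▸ hPx)).symm
    rw [this]
    exact (PrimeSpectrum.basicOpen f).isOpen.preimage continuous_subtype_val
  haveI : Algebra.QuasiFiniteAt V q := Algebra.QuasiFiniteAt.of_isOpen_singleton_fiber (R := V) (S := C) qP hopen
  obtain ⟨S', hS', r, hr, hbij⟩ := Algebra.QuasiFiniteAt.exists_fg_and_exists_notMem_and_awayMap_bijective (R := V) q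
  haveI : Module.Finite V S' := ⟨(Submodule.fg_top _).mpr hS'⟩
  have hint : ∀ s : S', IsIntegral V (i (s : C)) := fun s =>
    (Algebra.IsIntegral.isIntegral (R := V) s).map (i.comp S'.val)
  have hρ : i (r : C) ≠ 0 := fun h => hr (show i (r : C) ∈ maximalIdeal B by rw [h]; exact zero_mem _)
  have hclear : ∀ c : C, ∃ n : ℕ, IsIntegral V (i c * i (r : C) ^ n) := by
    intro c
    obtain ⟨z, hz⟩ := hbij.2 (algebraMap C _ c)
    obtain ⟨⟨a, b⟩, hab⟩ := IsLocalization.surj (Submonoid.powers r) z
    obtain ⟨n, hn⟩ := b.2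
    have h1 := congrArg (Localization.awayMap S'.val.toRingHom r) hab
    rw [map_mul, hz] at h1
    unfold Localization.awayMap IsLocalization.Away.map at h1
    erw [IsLocalization.map_eq, IsLocalization.map_eq, ← map_mul] at h1
    obtain ⟨w, hw⟩ := (IsLocalization.eq_iff_exists (M := Submonoid.powers (r : C)) (S := Localization.Away (r : C))).1 h1
    obtain ⟨m, hm⟩ := w.2
    have h3 := congrArg i hw
    rw [← hm, ← hn] at h3
    simp only [map_mul, map_pow, AlgHom.toRingHom_eq_coe, RingHom.coe_coe, Subalgebra.coe_val] at h3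
    refine ⟨n, ?_⟩
    rw [mul_left_cancel₀ (pow_ne_zero _ hρ) h3]
    exact hint a
  obtain ⟨a, b, hb, hab⟩ := hfrac y
  obtain ⟨n, hn⟩ := hclear a
  obtain ⟨m, hm⟩ := hclear b
  refine ⟨i a * i (r : C) ^ n * i (r : C) ^ m, i b * i (r : C) ^ m * i (r : C) ^ n,
    mul_ne_zero (mul_ne_zero hb.ne_zero (pow_ne_zero _ hρ)) (pow_ne_zero _ hρ), ?_,
    hn.mul ((hint r).pow m), hm.mul ((hint r).pow n)⟩
  linear_combination (i (r : C) ^ m * i (r : C) ^ n) * hab

end dominated

set_option maxHeartbeats 1000000 in
/-- Lifts of a transcendence basis of the residue field, over which the fraction field is finite. -/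
theorem exists_lifts_finite (A B K L : Type u) [CommRing A] [IsDomain A] [IsDiscreteValuationRing A]
    [CommRing B] [IsDomain B] [IsDiscreteValuationRing B] [Algebra A B] [IsLocalHom (algebraMap A B)]
    (hinj : Function.Injective (algebraMap A B))
    [Field K] [Field L] [Algebra A K] [IsFractionRing A K] [Algebra B L] [IsFractionRing B L]
    [Algebra K L] [Algebra A L] [IsScalarTower A K L] [IsScalarTower A B L] [Algebra.EssFiniteType A B] :
    ∃ (r : ℕ) (T : Fin r → B), AlgebraicIndependent (ResidueField A) (fun i => residue B (T i)) ∧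
      Algebra.EssFiniteType (ResidueField A) (ResidueField B) ∧
      Algebra.IsAlgebraic (IntermediateField.adjoin (ResidueField A) (Set.range fun i => residue B (T i))) (ResidueField B) ∧
      FiniteDimensional (IntermediateField.adjoin K (Set.range fun i => algebraMap B L (T i))) L := by
  classical
  haveI : Algebra.EssFiniteType B (ResidueField B) :=
    haveI : Algebra.FiniteType B (ResidueField B) := .of_surjective (Algebra.ofId B (ResidueField B)) residue_surjective
    inferInstance
  haveI : Algebra.EssFiniteType A (ResidueField B) := Algebra.EssFiniteType.comp A B (ResidueField B)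
  haveI hl : Algebra.EssFiniteType (ResidueField A) (ResidueField B) :=
    Algebra.EssFiniteType.of_comp A (ResidueField A) (ResidueField B)
  haveI : Algebra.EssFiniteType B L := Algebra.EssFiniteType.of_isLocalization L (nonZeroDivisors B)
  haveI : Algebra.EssFiniteType A L := Algebra.EssFiniteType.comp A B L
  haveI : Algebra.EssFiniteType K L := Algebra.EssFiniteType.of_comp A K L
  obtain ⟨s₀, hs₀⟩ := IntermediateField.fg_top (ResidueField A) (ResidueField B)
  obtain ⟨t, htb, hfin⟩ : ∃ t : Finset (ResidueField B), IsTranscendenceBasis (ResidueField A) ((↑) : t → ResidueField B) ∧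
      Algebra.IsAlgebraic (IntermediateField.adjoin (ResidueField A) (t : Set (ResidueField B))) (ResidueField B) := by
    haveI : Algebra.IsAlgebraic (Algebra.adjoin (ResidueField A) (s₀ : Set (ResidueField B))) (ResidueField B) := by
      rw [← IntermediateField.isAlgebraic_adjoin_iff_top, hs₀, Algebra.isAlgebraic_iff_isIntegral]
      exact Algebra.isIntegral_of_surjective IntermediateField.topEquiv.surjective
    obtain ⟨t, hts, ht⟩ := exists_isTranscendenceBasis_subset (R := ResidueField A) (s₀ : Set (ResidueField B))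
    lift t to Finset (ResidueField B) using s₀.finite_toSet.subset hts
    refine ⟨t, ht, ?_⟩
    convert! ht.isAlgebraic_field <;> simp
  obtain ⟨ε⟩ : Nonempty (Fin t.card ≃ t) := ⟨t.equivFin.symm⟩
  choose T hT using fun i : Fin t.card => residue_surjective (ε i : ResidueField B)
  have hTr : (fun i => residue B (T i)) = ((↑) : t → ResidueField B) ∘ ε := funext hT
  have hrange : Set.range (fun i => residue B (T i)) = (t : Set (ResidueField B)) := by
    rw [hTr, ε.surjective.range_comp, Subtype.range_coe]
  refine ⟨t.card, T, hTr ▸ (algebraicIndependent_equiv ε).2 htb.1, hl, by rw [hrange]; exact hfin, ?_⟩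
  -- the base ring
  let φ : MvPolynomial (Fin t.card) A →ₐ[A] B := MvPolynomial.aeval T
  let P₀ : Ideal (MvPolynomial (Fin t.card) A) := (maximalIdeal B).comap φ.toRingHom
  let V := Localization.AtPrime P₀
  let ψ : V →+* B := IsLocalization.lift (M := P₀.primeCompl) (g := φ.toRingHom) fun y => by
    have hy : φ (y : MvPolynomial (Fin t.card) A) ∉ maximalIdeal B := y.2
    exact not_not.1 hy
  have hψ : ∀ P, ψ (algebraMap _ V P) = φ P := fun P => IsLocalization.lift_eq _ P
  letI : Algebra V B := ψ.toAlgebra
  haveI : IsNoetherianRing V := IsLocalization.isNoetherianRing P₀.primeCompl V inferInstance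
  haveI : IsLocalHom (algebraMap V B) := ⟨fun v hv => by
    obtain ⟨a, b, rfl⟩ := IsLocalization.exists_mk'_eq P₀.primeCompl v
    rw [IsLocalization.AtPrime.isUnit_mk'_iff V P₀]
    intro ha
    have h1 : ψ (IsLocalization.mk' V a b) * φ b = φ a := by
      rw [← hψ, ← map_mul, IsLocalization.mk'_spec, hψ]
    have hb : IsUnit (φ b) := not_not.1 b.2
    exact (show φ a ∈ maximalIdeal B from ha) (h1 ▸ hv.mul hb)⟩
  -- algebraic residue extension
  have hk₁ : (IntermediateField.adjoin (ResidueField A) (t : Set (ResidueField B))).toSubfield ≤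
      (algebraMap (ResidueField V) (ResidueField B)).fieldRange := by
    rw [IntermediateField.adjoin_toSubfield, Subfield.closure_le, Set.union_subset_iff, ← hrange]
    refine ⟨?_, ?_⟩
    · rintro _ ⟨c, rfl⟩
      obtain ⟨a, rfl⟩ := residue_surjective c
      refine ⟨residue V (algebraMap (MvPolynomial (Fin t.card) A) V (MvPolynomial.C a)), ?_⟩
      show residue B (ψ _) = residue B (algebraMap A B a)
      rw [hψ, MvPolynomial.algHom_C]
    · rintro _ ⟨i, rfl⟩
      refine ⟨residue V (algebraMap (MvPolynomial (Fin t.card) A) V (MvPolynomial.X i)), ?_⟩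
      show residue B (ψ _) = residue B (T i)
      rw [hψ]; simp [φ]
  haveI : Algebra.IsAlgebraic (ResidueField V) (ResidueField B) := ⟨fun z => by
    letI : Algebra (IntermediateField.adjoin (ResidueField A) (t : Set (ResidueField B))) (ResidueField V) :=
      (((algebraMap (ResidueField V) (ResidueField B)).rangeRestrictFieldEquiv).symm.toRingHom.comp
        (Subfield.inclusion hk₁)).toAlgebra
    haveI : IsScalarTower (IntermediateField.adjoin (ResidueField A) (t : Set (ResidueField B)))
        (ResidueField V) (ResidueField B) :=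
      IsScalarTower.of_algebraMap_eq fun c =>
        (congrArg Subtype.val ((algebraMap (ResidueField V) (ResidueField B)).rangeRestrictFieldEquiv.apply_symm_apply
          (Subfield.inclusion hk₁ c))).symm
    exact (hfin.isAlgebraic z).extendScalars
      (algebraMap (IntermediateField.adjoin (ResidueField A) (t : Set (ResidueField B))) (ResidueField V)).injective⟩
  let gens : Finset B := Algebra.EssFiniteType.finset A B
  let C : Subalgebra V B := Algebra.adjoin V (gens : Set B)
  haveI : Algebra.FiniteType V C := C.fg_iff_finiteType.1 ⟨gens, rfl⟩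
  have hC₀ : ∀ x ∈ Algebra.EssFiniteType.subalgebra A B, x ∈ C := fun x hx => by
    induction hx using Algebra.adjoin_induction with
    | mem x hx => exact Algebra.subset_adjoin hx
    | algebraMap a =>
      rw [← φ.commutes a, ← hψ]
      exact C.algebraMap_mem _
    | add a b _ _ ha hb => exact add_mem ha hb
    | mul a b _ _ ha hb => exact mul_mem ha hb
  have hfrac : ∀ x : B, ∃ a b : C, IsUnit (C.val b) ∧ x * C.val b = C.val a := fun x => by
    obtain ⟨⟨a, b⟩, hab⟩ := IsLocalization.surj (Algebra.EssFiniteType.submonoid A B) x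
    exact ⟨⟨a, hC₀ _ a.2⟩, ⟨(b : Algebra.EssFiniteType.subalgebra A B), hC₀ _ (b : Algebra.EssFiniteType.subalgebra A B).2⟩,
      IsLocalization.map_units B b, hab⟩
  obtain ⟨π, hπ⟩ := IsDiscreteValuationRing.exists_irreducible A
  let πV : V := algebraMap _ V (MvPolynomial.C π : MvPolynomial (Fin t.card) A)
  have hπV : algebraMap V B πV = algebraMap A B π := (hψ _).trans (MvPolynomial.algHom_C _ _)
  have hπm : πV ∈ maximalIdeal V := fun hu =>
    (map_nonunit (algebraMap A B) π hπ.not_isUnit) (hπV ▸ hu.map (algebraMap V B))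
  have hπ0 : algebraMap V B πV ≠ 0 := hπV.symm ▸ fun h => hπ.ne_zero (hinj (h.trans (map_zero _).symm))
  -- algebraic over the base field
  set F := IntermediateField.adjoin K (Set.range fun i => algebraMap B L (T i))
  let χ : V →+* L := (algebraMap B L).comp ψ
  have hχ : ∀ v, χ v ∈ F := by
    intro v
    obtain ⟨a, b, rfl⟩ := IsLocalization.exists_mk'_eq P₀.primeCompl v
    have hφF : ∀ P, algebraMap B L (φ P) ∈ F := fun P => by
      induction P using MvPolynomial.induction_on with
      | C a =>
        rw [MvPolynomial.algHom_C, ← IsScalarTower.algebraMap_apply, IsScalarTower.algebraMap_apply A K L]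
        exact F.algebraMap_mem _
      | add P Q hP hQ => rw [map_add, map_add]; exact add_mem hP hQ
      | mul_X P i hP =>
        rw [map_mul, map_mul]
        refine mul_mem hP ?_
        simp only [φ, MvPolynomial.aeval_X]
        exact IntermediateField.subset_adjoin K _ ⟨i, rfl⟩
    have h1 : χ (IsLocalization.mk' V a b) * algebraMap B L (φ b) = algebraMap B L (φ a) := by
      rw [RingHom.comp_apply, ← map_mul, ← hψ, ← map_mul, IsLocalization.mk'_spec, hψ]
    have hb : algebraMap B L (φ b) ≠ 0 := fun h => by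
      have h2 : φ b = 0 := IsFractionRing.injective B L (h.trans (map_zero _).symm)
      exact b.2 (show φ b ∈ maximalIdeal B by rw [h2]; exact zero_mem _)
    rw [eq_div_of_mul_eq hb h1]
    exact div_mem (hφF a) (hφF b)
  let χF : V →+* F := χ.codRestrict F hχ
  have hint : ∀ b : B, IsIntegral V b → algebraMap B L b ∈ algebraicClosure F L := by
    intro b ⟨P, hP, hb⟩
    rw [mem_algebraicClosure_iff]
    refine IsIntegral.isAlgebraic ⟨P.map χF, hP.map _, ?_⟩
    rw [Polynomial.eval₂_map]
    have h1 := congrArg (algebraMap B L) hb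
    rw [map_zero, Polynomial.hom_eval₂] at h1
    exact h1
  have hB : ∀ y : B, algebraMap B L y ∈ algebraicClosure F L := fun y => by
    obtain ⟨a, b, hb, hab, ha, hb'⟩ := exists_integral_den (C := C) C.val Subtype.val_injective hfrac hπm hπ0 y
    have hb0 : algebraMap B L b ≠ 0 := fun h => hb (IsFractionRing.injective B L (h.trans (map_zero _).symm))
    rw [eq_div_of_mul_eq hb0 ((map_mul (algebraMap B L) y b).symm.trans (congrArg (algebraMap B L) hab))]
    exact div_mem (hint a ha) (hint b hb')
  haveI : Algebra.IsAlgebraic F L := ⟨fun z => by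
    obtain ⟨a, b, -, rfl⟩ := IsFractionRing.div_surjective (A := B) z
    exact mem_algebraicClosure_iff.1 (div_mem (hB a) (hB b))⟩
  haveI : Algebra.EssFiniteType F L := Algebra.EssFiniteType.of_comp K F L
  exact Algebra.finite_of_essFiniteType_of_isAlgebraic

end Groth.Agent.EtRam7.Sol
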