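import Groth.Agent.EtRam7.Sol.FiniteLevel
import Groth.Agent.EtRam7.Sol.Lifts
import Groth.Agent.EtRam7.Epp.Basic
import Mathlib

/-! Solutions for essentially finite type extensions in positive residue characteristic. -/

set_option autoImplicit false
set_option linter.style.haveILetI false
set_option linter.unusedSectionVars false
universe u

namespace Groth.Agent.EtRam7.Sol

open IsLocalRing Polynomial IntermediateField

/-- The valuation on the algebraic closure of a discretely valued field has rank one. -/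
theorem rankOne {R Lh Ω : Type u} [CommRing R] [IsDomain R] [IsDiscreteValuationRing R] [Field Lh] [Algebra R Lh]
    [IsFractionRing R Lh] [Field Ω] [Algebra Lh Ω] [Algebra.IsAlgebraic Lh Ω] {W : ValuationSubring Ω}
    (hW : EtRam.Dominates R ((algebraMap Lh Ω).comp (algebraMap R Lh)) W) : RankOne W := by
  classical
  intro τ c hτ hc
  by_cases hcW : c ∈ W
  swap
  · exact ⟨0, by rw [pow_zero]; exact le_of_lt (not_le.1 fun h => hcW ((W.valuation_le_one_iff c).1 h))⟩
  by_cases hτ0 : τ = 0
  · exact ⟨1, by rw [hτ0, map_zero, pow_one]; exact zero_le⟩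
  let F := IntermediateField.adjoin Lh ({τ, c} : Set Ω)
  haveI : FiniteDimensional Lh F :=
    IntermediateField.finiteDimensional_adjoin fun x _ => Algebra.IsIntegral.isIntegral x
  haveI : IsDiscreteValuationRing (W.comap (algebraMap F Ω)) :=
    isDiscreteValuationRing_of_dominates_finite (A := R) (K := Lh) _ (dominates_comap _ (algebraMap F Ω) W hW)
  obtain ⟨σ, hσ⟩ := IsDiscreteValuationRing.exists_irreducible (W.comap (algebraMap F Ω))
  let c' : W.comap (algebraMap F Ω) := ⟨⟨c, subset_adjoin Lh _ (Set.mem_insert_of_mem _ rfl)⟩, hcW⟩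
  let τ' : W.comap (algebraMap F Ω) :=
    ⟨⟨τ, subset_adjoin Lh _ (Set.mem_insert _ _)⟩, (W.valuation_le_one_iff τ).1 hτ.le⟩
  have hτm : τ' ∈ maximalIdeal (W.comap (algebraMap F Ω)) :=
    (ValuationSubring.valuation_lt_one_iff _ τ').2 ((valuation_lt_one_comap W (algebraMap F Ω)).2 hτ)
  obtain ⟨e, he⟩ := Ideal.mem_span_singleton'.1 (hσ.maximalIdeal_eq ▸ hτm : τ' ∈ Ideal.span {σ})
  obtain ⟨m, v, hv⟩ := IsDiscreteValuationRing.eq_unit_mul_pow_irreducible
    (show c' ≠ 0 from fun h => hc (congrArg (fun z : W.comap (algebraMap F Ω) => ((z : F) : Ω)) h)) hσ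
  refine ⟨m, ?_⟩
  have h1 : τ' ^ m = e ^ m * (↑v⁻¹ : W.comap (algebraMap F Ω)) * c' := by
    rw [hv, ← he, mul_pow, mul_assoc, Units.inv_mul_cancel_left]
  have h2 : τ ^ m = ((((e ^ m * ↑v⁻¹ : W.comap (algebraMap F Ω))) : F) : Ω) * c :=
    congrArg (fun z : W.comap (algebraMap F Ω) => ((z : F) : Ω)) h1
  rw [← map_pow, h2, map_mul]
  exact mul_le_of_le_one_left' ((W.valuation_le_one_iff _).2 (e ^ m * (↑v⁻¹ : W.comap (algebraMap F Ω))).2)

/-- An isomorphism of fields is good. -/
theorem good_of_bijective {E E' : Type u} [Field E] [Field E'] (W : ValuationSubring E') (σ : E →+* E')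
    (hσ : Function.Surjective σ) : Good W σ := by
  have hsurj : Function.Surjective (EtRam.inclOfComap W σ) := fun y => by
    obtain ⟨x, hx⟩ := hσ y
    exact ⟨⟨x, show σ x ∈ W from hx.symm ▸ y.2⟩, Subtype.ext hx⟩
  letI : Algebra (W.comap σ) W := (EtRam.inclOfComap W σ).toAlgebra
  refine ⟨le_antisymm (Ideal.map_le_iff_le_comap.2 fun a ha => map_nonunit (EtRam.inclOfComap W σ) a ha) fun y hy => ?_, ?_⟩
  · obtain ⟨x, rfl⟩ := hsurj y
    exact Ideal.mem_map_of_mem _ fun hx => hy (hx.map _)
  · letI : Algebra (ResidueField (W.comap σ)) (ResidueField W) := (ResidueField.map (EtRam.inclOfComap W σ)).toAlgebra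
    haveI : Algebra.IsSeparable (ResidueField (W.comap σ)) (ResidueField W) := ⟨fun z => by
      obtain ⟨y, rfl⟩ := residue_surjective z
      obtain ⟨x, rfl⟩ := hsurj y
      exact isSeparable_algebraMap (residue (W.comap σ) x)⟩
    exact isGeometricallyReduced_of_isSeparable _ _

set_option maxHeartbeats 1000000 in
/-- A good level spreads to the finite extensions. -/
theorem good_of_level {Ω K : Type u} [Field Ω] [Field K] [Algebra K Ω] (W : ValuationSubring Ω)
    (E₁ N₁ E : IntermediateField K Ω) (h₁ : E₁ ≤ N₁) (h₂ : E₁ ≤ E) [IsDiscreteValuationRing (W.comap E₁.toSubfield.subtype)]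
    [IsDiscreteValuationRing (W.comap N₁.toSubfield.subtype)] [FiniteDimensional K E]
    (hgood : Good (W.comap N₁.val.toRingHom) (IntermediateField.inclusion h₁).toRingHom)
    (incl : E →+* IntermediateField.adjoin N₁ (E : Set Ω)) (hincl : ∀ x : E, ((incl x : IntermediateField.adjoin N₁ (E : Set Ω)) : Ω) = x) :
    Good (W.comap (algebraMap (IntermediateField.adjoin N₁ (E : Set Ω)) Ω)) incl := by
  set V := W.comap N₁.val.toRingHom
  set f := (IntermediateField.inclusion h₁).toRingHom
  haveI : IsDiscreteValuationRing V := ‹IsDiscreteValuationRing (W.comap N₁.toSubfield.subtype)›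
  haveI : IsDiscreteValuationRing (V.comap f) := ‹IsDiscreteValuationRing (W.comap E₁.toSubfield.subtype)›
  letI : Algebra (V.comap f) V := (EtRam.inclOfComap V f).toAlgebra
  haveI : IsLocalHom (algebraMap (V.comap f) V) := inferInstanceAs (IsLocalHom (EtRam.inclOfComap V f))
  letI : Algebra E₁ N₁ := f.toAlgebra
  letI : Algebra (V.comap f) N₁ := (f.comp (algebraMap (V.comap f) E₁)).toAlgebra
  haveI : IsScalarTower (V.comap f) E₁ N₁ := IsScalarTower.of_algebraMap_eq fun _ => rfl
  haveI : IsScalarTower (V.comap f) V N₁ := IsScalarTower.of_algebraMap_eq fun _ => rfl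
  letI : Algebra E₁ E := (IntermediateField.inclusion h₂).toRingHom.toAlgebra
  haveI : IsScalarTower K E₁ E := IsScalarTower.of_algebraMap_eq fun _ => rfl
  haveI : FiniteDimensional E₁ E := Module.Finite.of_restrictScalars_finite K E₁ E
  haveI : Algebra.IsGeometricallyReduced (ResidueField (V.comap f)) (ResidueField V) := by
    convert hgood.2 using 2
    refine Algebra.algebra_ext _ _ fun r => ?_
    obtain ⟨r, rfl⟩ := residue_surjective r
    rfl
  let M := IntermediateField.adjoin N₁ (E : Set Ω)
  letI : Algebra E M := incl.toAlgebra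
  letI : Algebra E₁ M := ((algebraMap N₁ M).comp (algebraMap E₁ N₁)).toAlgebra
  haveI : IsScalarTower E₁ N₁ M := IsScalarTower.of_algebraMap_eq fun _ => rfl
  haveI : IsScalarTower E₁ E M := IsScalarTower.of_algebraMap_eq fun c => Subtype.ext (hincl ⟨c, h₂ c.2⟩).symm
  have halg : ∀ x ∈ (E : Set Ω), IsAlgebraic N₁ x := fun x hx => by
    have h : IsIntegral K x := (Algebra.IsIntegral.isIntegral (R := K) (⟨x, hx⟩ : E)).map E.val
    exact h.tower_top.isAlgebraic
  refine isSolution_of_weaklyUnramified_separable (V.comap f) V E₁ N₁ hgood.1 E M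
    (adjoin_eq_top_of_intermediate M rfl halg _ fun x _ hxE => ?_) (W.comap (algebraMap M Ω))
    ⟨fun b => b.2, fun b hb => (valuation_lt_one_comap W (algebraMap M Ω)).2
      (show W.valuation ((b : N₁) : Ω) < 1 from
        (valuation_lt_one_comap W N₁.val.toRingHom).1 ((ValuationSubring.valuation_lt_one_iff _ b).1 hb))⟩
  exact Algebra.subset_adjoin ⟨⟨x, hxE⟩, Subtype.ext (hincl ⟨x, hxE⟩)⟩

set_option maxHeartbeats 2000000 in
/-- Solutions exist for extensions essentially of finite type. -/
theorem exists_solution (p : ℕ) [Fact p.Prime] {A B K L : Type u} [CommRing A] [IsDomain A] [IsDiscreteValuationRing A]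
    [CommRing B] [IsDomain B] [IsDiscreteValuationRing B] [Algebra A B] [IsLocalHom (algebraMap A B)]
    (hinj : Function.Injective (algebraMap A B))
    [Field K] [Field L] [Algebra A K] [IsFractionRing A K] [Algebra B L] [IsFractionRing B L]
    [Algebra K L] [Algebra A L] [IsScalarTower A K L] [IsScalarTower A B L] [Algebra.EssFiniteType A B]
    [CharP (ResidueField A) p] :
    ∃ (K₁ : Type u) (_ : Field K₁) (_ : Algebra K K₁) (_ : FiniteDimensional K K₁), EtRam.IsSolution B K L K₁ := by
  classical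
  obtain ⟨R, _, _, _, _, f, _, hf, -, -, -⟩ := EppGen.exists_complete_sep B
  let Lh := FractionRing R
  let Ω := AlgebraicClosure Lh
  have hfL : Function.Injective ((algebraMap R Lh).comp f) := (IsFractionRing.injective R Lh).comp hf
  let lL : L →+* Lh := IsFractionRing.lift hfL
  have hlL : ∀ b, lL (algebraMap B L b) = algebraMap R Lh (f b) := IsFractionRing.lift_algebraMap hfL
  letI : Algebra L Ω := ((algebraMap Lh Ω).comp lL).toAlgebra
  letI : Algebra K Ω := ((algebraMap L Ω).comp (algebraMap K L)).toAlgebra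
  haveI : IsScalarTower K L Ω := IsScalarTower.of_algebraMap_eq fun _ => rfl
  obtain ⟨W, hW₀⟩ := exists_dominates (A := R) (K := Lh) (L := Ω)
  have hW : EtRam.Dominates R ((algebraMap Lh Ω).comp (algebraMap R Lh)) W := by
    rwa [← IsScalarTower.algebraMap_eq R Lh Ω]
  have hWB : EtRam.Dominates B ((algebraMap L Ω).comp (algebraMap B L)) W := by
    have e : ∀ b, algebraMap L Ω (algebraMap B L b) = algebraMap Lh Ω (algebraMap R Lh (f b)) := fun b => by
      show algebraMap Lh Ω (lL _) = _; rw [hlL]
    exact ⟨fun b => by rw [RingHom.comp_apply, e]; exact hW.1 _, fun b hb => by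
      rw [RingHom.comp_apply, e]; exact hW.2 _ (map_nonunit f b hb)⟩
  have hWA : EtRam.Dominates A ((algebraMap K Ω).comp (algebraMap A K)) W := Epp.dominates_A (A := A) (K := K) hWB
  have hrk : RankOne W := rankOne hW
  -- residues
  let gA : A →+* W := ((algebraMap K Ω).comp (algebraMap A K)).codRestrict W hWA.1
  haveI : IsLocalHom gA := isLocalHom_of_dominates _ W hWA
  let gB : B →+* W := ((algebraMap L Ω).comp (algebraMap B L)).codRestrict W hWB.1
  haveI : IsLocalHom gB := isLocalHom_of_dominates _ W hWB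
  haveI : CharP (ResidueField W) p :=
    (RingHom.charP_iff (ResidueField.map gA) (ResidueField.map gA).injective p).1 inferInstance
  have hKA : ∀ x : K, algebraMap K Ω x ∈ W → ∃ a, algebraMap A K a = x := by
    intro x hx
    rcases ValuationRing.isInteger_or_isInteger A x with ⟨a, ha⟩ | ⟨a, ha⟩
    · exact ⟨a, ha⟩
    · by_cases hau : IsUnit a
      · obtain ⟨a', ha'⟩ := hau.exists_left_inv
        refine ⟨a', ?_⟩
        have h1 : algebraMap A K a' * x⁻¹ = 1 := by
          rw [← show algebraMap A K a = x⁻¹ from ha, ← map_mul, ha', map_one]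
        rw [eq_inv_of_mul_eq_one_left h1, inv_inv]
      · by_cases hx0 : x = 0
        · exact ⟨0, by rw [map_zero, hx0]⟩
        · exfalso
          have h1 : W.valuation (algebraMap K Ω x⁻¹) < 1 := by rw [← show algebraMap A K a = x⁻¹ from ha]; exact hWA.2 a hau
          rw [map_inv₀, map_inv₀] at h1
          have h2 := (W.valuation_le_one_iff _).2 hx
          exact absurd h1 (not_lt.2 (one_le_inv_iff₀.2 ⟨zero_lt_iff.2 ((Valuation.ne_zero_iff _).2 ((_root_.map_ne_zero _).2 hx0)), h2⟩))
  set bot : IntermediateField K Ω := ⊥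
  have hKdvr : IsDiscreteValuationRing (W.comap bot.toSubfield.subtype) := by
    haveI : FiniteDimensional K bot := inferInstanceAs (FiniteDimensional K (⊥ : IntermediateField K Ω))
    exact isDiscreteValuationRing_of_dominates_finite (A := A) (K := K) (F := bot) _
      (dominates_comap _ (algebraMap bot Ω) W hWA)
  -- the transcendence basis and `L`
  obtain ⟨r, T, hTind, hlfg, -, hTfin⟩ := exists_lifts_finite A B K L hinj
  haveI : Algebra.EssFiniteType K L := by
    haveI : Algebra.EssFiniteType B L := Algebra.EssFiniteType.of_isLocalization L (nonZeroDivisors B)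
    haveI : Algebra.EssFiniteType A L := Algebra.EssFiniteType.comp A B L
    exact Algebra.EssFiniteType.of_comp A K L
  let jL : L →ₐ[K] Ω := IsScalarTower.toAlgHom K L Ω
  let Lf : IntermediateField K Ω := jL.fieldRange
  have hLfg : Lf.FG := by
    obtain ⟨S, hS⟩ := IntermediateField.fg_top K L
    refine ⟨S.image jL, ?_⟩
    rw [Finset.coe_image, ← IntermediateField.adjoin_map, hS, ← AlgHom.fieldRange_eq_map]
  let TΩ : Fin r → Ω := fun i => algebraMap L Ω (algebraMap B L (T i))
  have hTres : ∀ i, res W (TΩ i) = ResidueField.map gB (residue B (T i)) := fun i => res_eq W (hWB.1 (T i))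
  have hindΩ : AlgebraicIndependent (resField W bot.toSubfield) fun i => res W (TΩ i) := by
    let e : ResidueField A →+* resField W bot.toSubfield :=
      (ResidueField.map gA).codRestrict _ fun c => by
        obtain ⟨a, rfl⟩ := residue_surjective c
        rw [ResidueField.map_residue, ← res_coe]
        exact res_mem_resField W (bot.algebraMap_mem (algebraMap A K a))
    have he : Function.Surjective e := fun z => by
      obtain ⟨x, hx, hxW, hxz⟩ := (mem_resField W).1 z.2
      obtain ⟨c, rfl⟩ := IntermediateField.mem_bot.1 hx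
      obtain ⟨a, rfl⟩ := hKA c hxW
      exact ⟨residue A a, Subtype.ext (by rw [← hxz, res_eq W hxW]; rfl)⟩
    rw [show (fun i => res W (TΩ i)) = (ResidueField.map gB) ∘ fun i => residue B (T i) from funext hTres]
    refine hTind.ringHom_of_comp_eq e (ResidueField.map gB) he (RingHom.injective _) ?_
    refine RingHom.ext fun c => ?_
    obtain ⟨a, rfl⟩ := residue_surjective c
    refine congrArg (residue W) (Subtype.ext ?_)
    show algebraMap K Ω (algebraMap A K a) = algebraMap L Ω (algebraMap B L (algebraMap A B a))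
    rw [← IsScalarTower.algebraMap_apply A B L, IsScalarTower.algebraMap_apply A K L, ← IsScalarTower.algebraMap_apply K L Ω]
  have halg : ∀ x ∈ Lf, IsAlgebraic (adjoin K (Set.range TΩ)) x := by
    rintro _ ⟨l, rfl⟩
    set FT := adjoin K (Set.range fun i => algebraMap B L (T i))
    have hmap : FT.map jL = adjoin K (Set.range TΩ) := by
      rw [IntermediateField.adjoin_map, ← Set.range_comp]; rfl
    let g : FT →+* adjoin K (Set.range TΩ) :=
      (jL.toRingHom.comp FT.val.toRingHom).codRestrict _ fun y => hmap ▸ ⟨_, y.2, rfl⟩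
    exact (Algebra.IsAlgebraic.isAlgebraic (R := FT) l).ringHom_of_comp_eq g jL.toRingHom (RingHom.injective g) rfl
  -- the levels
  obtain ⟨E, hEc, hEperf, hindE, hEdvr, hfin, ϖ, hϖE, hϖ0, hϖ1, hmax⟩ :=
    exists_weak_level W p hKdvr hLfg TΩ (fun i => hWB.1 (T i)) (fun i => ⟨_, rfl⟩) hindΩ halg
  haveI := hEperf
  haveI := hEdvr
  obtain ⟨n, U, h, Θ, hU, hUind, halgU, hh, hhW, hhU, hΘW, hΘ0, hΘder, hnear⟩ :=
    exists_approx_level W hrk E Lf TΩ (fun i => hWB.1 (T i)) (fun i => ⟨_, rfl⟩) hindE hfin hϖE hϖ0 hϖ1 hmax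
  obtain ⟨π, hπ⟩ := IsDiscreteValuationRing.exists_irreducible A
  obtain ⟨E₁, hE₁fin, hgood⟩ := exists_finite_level W hrk (π := algebraMap A K π)
    (fun h0 => hπ.ne_zero (IsFractionRing.injective A K (h0.trans (map_zero _).symm))) (hWA.2 π hπ.not_isUnit)
    E Lf hEc hLfg U hU hUind halgU hh hhW hhU hΘW hΘ0 hΘder hnear
  -- normal closure
  haveI : Algebra.IsAlgebraic K E₁ := Algebra.IsAlgebraic.of_finite K E₁
  let En : IntermediateField K Ω := IntermediateField.normalClosure K E₁ Ω
  haveI : FiniteDimensional K En := normalClosure.is_finiteDimensional K E₁ Ω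
  have hnormal : Normal K En := by
    haveI : IsAlgClosed (_root_.algebraicClosure K Ω) := IsAlgClosure.isAlgClosed K
    exact (Algebra.IsAlgebraic.isNormalClosure_normalClosure (fun x => IsAlgClosed.splits _)).normal
  haveI := hnormal
  set N₁ : IntermediateField K Ω := Lf ⊔ E₁
  haveI hE₁dvr : IsDiscreteValuationRing (W.comap E₁.toSubfield.subtype) :=
    isDiscreteValuationRing_of_dominates_finite (A := A) (K := K) (F := E₁) (W.comap E₁.toSubfield.subtype)
      (dominates_comap _ (algebraMap E₁ Ω) W hWA)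
  haveI hN₁dvr : IsDiscreteValuationRing (W.comap N₁.toSubfield.subtype) := by
    have hLdvr : IsDiscreteValuationRing (W.comap Lf.toSubfield.subtype) := by
      let eL : L →+* Lf := (jL : L →+* Ω).codRestrict Lf fun l => ⟨l, rfl⟩
      letI : Algebra L Lf := eL.toAlgebra
      haveI : FiniteDimensional L Lf := Module.Finite.of_surjective (Algebra.linearMap L Lf) fun z => by
        obtain ⟨l, hl⟩ := z.2; exact ⟨l, Subtype.ext hl⟩
      exact isDiscreteValuationRing_of_dominates_finite (A := B) (K := L) (F := Lf) _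
        (dominates_comap _ (algebraMap Lf Ω) W hWB)
    haveI := hLdvr
    have halgE₁ : ∀ x ∈ E₁, IsAlgebraic Lf x := fun x hx =>
      ((Algebra.IsIntegral.isIntegral (R := K) (⟨x, hx⟩ : E₁)).map E₁.val).tower_top.isAlgebraic
    haveI := finite_sup (IntermediateField.essFiniteType_iff.1 (inferInstance : Algebra.EssFiniteType K E₁)) halgE₁
    have h := (dvr_of_finite_intermediate W (le_sup_right : Lf ≤ E₁ ⊔ Lf)).1
    rwa [show (E₁ ⊔ Lf : IntermediateField K Ω) = N₁ from sup_comm _ _] at h
  let N := IntermediateField.adjoin N₁ (En : Set Ω)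
  let incl : En →+* N :=
    (En.val : En →+* Ω).codRestrict _ fun x => IntermediateField.subset_adjoin N₁ _ x.2
  have hG := good_of_level W E₁ N₁ En le_sup_right (E₁.le_normalClosure) hgood incl fun _ => rfl
  refine ⟨En, inferInstance, inferInstance, inferInstance, ?_⟩
  intro M _ _ _ _ _ _ hgen WM hWM
  letI : Algebra B R := f.toAlgebra
  letI : Algebra L Lh := lL.toAlgebra
  haveI : IsLocalHom (algebraMap B R) := ‹IsLocalHom f›
  obtain ⟨Ω', _, _, ι, j, V, hιj, hVW, hVR⟩ :=
    exists_joint_dominating (B' := R) (L' := Lh) hf (fun b => (hlL b).symm) WM hWM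
  letI : Algebra Lh Ω' := ι.toAlgebra
  let φ : Ω →ₐ[Lh] Ω' := IsAlgClosed.lift
  have hVW' : V.comap (φ : Ω →+* Ω') = W := Epp.valuationSubring_unique hW ⟨fun r => by
      show φ (algebraMap Lh Ω (algebraMap R Lh r)) ∈ V
      rw [φ.commutes]; exact hVR.1 r, fun r hr => by
      rw [valuation_lt_one_comap]
      show V.valuation (φ (algebraMap Lh Ω (algebraMap R Lh r))) < 1
      rw [φ.commutes]; exact hVR.2 r hr⟩
  have hjL : ∀ l : L, j (algebraMap L M l) = φ (algebraMap L Ω l) := fun l => by
    show _ = φ (algebraMap Lh Ω (lL l))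
    rw [φ.commutes]; exact (RingHom.congr_fun hιj l).symm
  letI : Algebra K Ω' := ((φ : Ω →+* Ω').comp (algebraMap K Ω)).toAlgebra
  let g₁ : En →ₐ[K] Ω' :=
    { ((φ : Ω →+* Ω').comp En.val.toRingHom) with
      commutes' := fun c => rfl }
  let h₁ : En →ₐ[K] Ω' :=
    { (j.comp (algebraMap En M)) with
      commutes' := fun c => by
        show j (algebraMap En M (algebraMap K En c)) = φ (algebraMap L Ω (algebraMap K L c))
        rw [← IsScalarTower.algebraMap_apply K En M, IsScalarTower.algebraMap_apply K L M, hjL] }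
  obtain ⟨hr₁, hr₂⟩ := EppGen.exists_equiv_of_normal g₁ h₁
  have hin : ∀ x : M, ∃ z : N, φ (z : Ω) = j x := by
    intro x
    have hx : x ∈ Algebra.adjoin L (Set.range (algebraMap En M)) := hgen ▸ Algebra.mem_top
    induction hx using Algebra.adjoin_induction with
    | mem y hy =>
      obtain ⟨e, rfl⟩ := hy
      obtain ⟨e', he'⟩ := hr₁ e
      exact ⟨incl e', he'⟩
    | algebraMap l =>
      exact ⟨algebraMap N₁ N ⟨jL l, (le_sup_left : Lf ≤ N₁) ⟨l, rfl⟩⟩, (hjL l).symm⟩
    | add y z _ _ hy hz =>
      obtain ⟨a, ha⟩ := hy; obtain ⟨b, hb⟩ := hz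
      exact ⟨a + b, by rw [map_add, ← ha, ← hb, ← map_add]; rfl⟩
    | mul y z _ _ hy hz =>
      obtain ⟨a, ha⟩ := hy; obtain ⟨b, hb⟩ := hz
      exact ⟨a * b, by rw [map_mul, ← ha, ← hb, ← map_mul]; rfl⟩
  choose g hg using hin
  have hφinj : ∀ a b : N, φ (a : Ω) = φ (b : Ω) → a = b := fun a b h => Subtype.ext ((φ : Ω →+* Ω').injective h)
  let gM : M →+* N :=
    { toFun := g
      map_one' := hφinj _ _ (by rw [hg, map_one]; exact (map_one φ).symm)
      map_mul' := fun x y => hφinj _ _ (by rw [hg, map_mul, ← hg x, ← hg y, ← map_mul]; rfl)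
      map_zero' := hφinj _ _ (by rw [hg, map_zero]; exact (map_zero φ).symm)
      map_add' := fun x y => hφinj _ _ (by rw [hg, map_add, ← hg x, ← hg y, ← map_add]; rfl) }
  have hg₁i : ∀ {a b : En}, g₁ a = g₁ b → a = b := fun h => (g₁ : En →+* Ω').injective h
  choose σ hσ using hr₁
  let σ' : En →+* En :=
    { toFun := σ
      map_one' := hg₁i (by rw [hσ, map_one, map_one])
      map_mul' := fun x y => hg₁i (by rw [hσ, map_mul, map_mul, hσ, hσ])
      map_zero' := hg₁i (by rw [hσ, map_zero, map_zero])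
      map_add' := fun x y => hg₁i (by rw [hσ, map_add, map_add, hσ, hσ]) }
  have hσ' : Function.Surjective σ' := fun y => by
    obtain ⟨x, hx⟩ := hr₂ y
    exact ⟨x, hg₁i ((hσ x).trans hx.symm)⟩
  have hcomp : gM.comp (algebraMap En M) = incl.comp σ' := RingHom.ext fun e => hφinj _ _ ((hg _).trans (hσ e).symm)
  have hWg : (W.comap (algebraMap N Ω)).comap gM = WM := by
    rw [← hVW, ← hVW']
    ext x
    show φ ((g x : N) : Ω) ∈ V ↔ j x ∈ V
    rw [hg]
  rw [← hWg]
  refine Good.comap ?_
  rw [hcomp]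
  exact Good.trans (good_of_bijective _ σ' hσ') hG

end Groth.Agent.EtRam7.Sol
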