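import Groth.Agent.EtRam7.Sol.Residual
import Mathlib

/-! Counting algebraically independent elements. -/

set_option autoImplicit false
set_option linter.style.haveILetI false
set_option linter.unusedSectionVars false
universe u

namespace Groth.Agent.EtRam7.Sol

open IntermediateField

variable {F A : Type u} [Field F] [Field A] [Algebra F A]

theorem card_le_of_indep {r n : ℕ} (v : Fin r → A) (w : Fin n → A) (hv : AlgebraicIndependent F v)
    [Algebra.IsAlgebraic (adjoin F (Set.range w)) A] : r ≤ n := by
  haveI : Algebra.IsAlgebraic (Algebra.adjoin F (Set.range w)) A :=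
    isAlgebraic_adjoin_iff_top.1 inferInstance
  have h := hv.lift_cardinalMk_le_trdeg.trans (Cardinal.lift_le.2 (Algebra.IsAlgebraic.trdeg_le_cardinalMk F (Set.range w)))
  have h2 : Nat.card (Set.range w) ≤ n := by
    simpa using Finite.card_range_le w
  rw [Cardinal.mk_fin, Cardinal.lift_natCast, ← Nat.cast_card, Cardinal.lift_natCast, Nat.cast_le] at h
  exact h.trans h2

/-- Independent elements, as many as a generating family, generate up to algebraic elements. -/
theorem isAlgebraic_adjoin_of_card {r n : ℕ} (T : Fin r → A) (U : Fin n → A) (hU : AlgebraicIndependent F U)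
    [Algebra.IsAlgebraic (adjoin F (Set.range T)) A] (hrn : r ≤ n) (x : A) :
    IsAlgebraic (adjoin F (Set.range U)) x := by
  rw [isAlgebraic_adjoin_iff]
  by_contra hx
  have h1 : AlgebraicIndependent F (fun o : Option (Fin n) => o.elim x U) := (hU.option_iff_transcendental x).2 hx
  have h2 := card_le_of_indep _ T (h1.comp (finSuccEquiv n) (finSuccEquiv n).injective)
  omega

/-- A finitely generated field containing a set is generated by it and finitely many elements. -/
theorem fg_of_eq_closure {k : Subfield A} {M : Subfield A} {G : Set A} (hG : G.Finite)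
    (h : M = Subfield.closure ((k : Set A) ∪ G)) :
    ∃ N : IntermediateField k A, N.toSubfield = M ∧ N.FG := by
  refine ⟨adjoin k G, ?_, hG.toFinset, by rw [hG.coe_toFinset]⟩
  rw [adjoin_toSubfield, h]
  congr 1
  rw [show Set.range (algebraMap k A) = (k : Set A) from Subtype.range_coe]

end Groth.Agent.EtRam7.Sol
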