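import Groth.Agent.EtRam7.Sol.Residual
import Groth.Agent.EtRam7.EppGen.Closure
import Mathlib

/-! Newton iteration and the closure of a subfield. -/

set_option autoImplicit false
set_option linter.style.haveILetI false
set_option linter.unusedSectionVars false
universe u

namespace Groth.Agent.EtRam7.Sol

open IsLocalRing Polynomial

variable {Ω : Type u} [Field Ω] (W : ValuationSubring Ω)

/-- Powers of topologically nilpotent elements are arbitrarily small. -/
def RankOne : Prop := ∀ τ c : Ω, W.valuation τ < 1 → c ≠ 0 → ∃ n : ℕ, W.valuation τ ^ n ≤ W.valuation c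

/-- Elements approximable by `G`. -/
abbrev Near (G : Subfield Ω) (x : Ω) : Prop := EppGen.Approximable W (fun _ : ℕ => G) x

theorem near_iff {G : Subfield Ω} {x : Ω} :
    Near W G x ↔ ∀ c : Ω, c ≠ 0 → ∃ g ∈ G, W.valuation (x - g) ≤ W.valuation c :=
  ⟨fun h c hc => by obtain ⟨M, hM⟩ := h c hc; exact hM M le_rfl, fun h c hc => ⟨0, fun _ _ => h c hc⟩⟩

theorem near_of_mem {G : Subfield Ω} {x : Ω} (hx : x ∈ G) : Near W G x :=
  EppGen.approximable_of_mem W _ fun _ => hx

/-- The elements near `G` form a field. -/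
theorem le_near {G N : Subfield Ω} (hτ : ∃ τ : Ω, τ ≠ 0 ∧ W.valuation τ < 1) {S : Set Ω}
    (hN : N ≤ Subfield.closure S) (hS : ∀ x ∈ S, Near W G x) : ∀ x ∈ N, Near W G x := fun _ hx =>
  (Subfield.closure_le (t := EppGen.approxField W (fun _ : ℕ => G) hτ)).2 hS (hN hx)

theorem Near.trans {G G' : Subfield Ω} {x : Ω} (hx : Near W G' x) (h : ∀ y ∈ G', Near W G y) : Near W G x := by
  rw [near_iff] at hx ⊢
  intro c hc
  obtain ⟨y, hy, hxy⟩ := hx c hc
  obtain ⟨g, hg, hyg⟩ := (near_iff W).1 (h y hy) c hc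
  exact ⟨g, hg, by rw [show x - g = (x - y) + (y - g) by ring]; exact W.valuation.map_add_le hxy hyg⟩

/-- Values of nearby elements. -/
theorem valEq_of_near {G N : Subfield Ω} (hτ : ∃ τ : Ω, τ ≠ 0 ∧ W.valuation τ < 1) (h : ∀ x ∈ N, Near W G x) :
    ValEq W G N := by
  obtain ⟨τ, hτ0, hτ1⟩ := hτ
  intro x hx hx0
  obtain ⟨g, hg, hxg⟩ := (near_iff W).1 (h x hx) (x * τ) (mul_ne_zero hx0 hτ0)
  refine ⟨g, hg, ?_⟩
  have hlt : W.valuation (x - g) < W.valuation x := lt_of_le_of_lt hxg (by
    rw [map_mul]; exact mul_lt_of_lt_one_right (zero_lt_iff.2 ((Valuation.ne_zero_iff _).2 hx0)) hτ1)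
  rw [show g = x - (x - g) by ring]
  exact (W.valuation.map_sub_eq_of_lt_left hlt).symm

/-- Residues of nearby elements. -/
theorem resField_le_of_near {G N : Subfield Ω} (hτ : ∃ τ : Ω, τ ≠ 0 ∧ W.valuation τ < 1)
    (h : ∀ x ∈ N, Near W G x) : resField W N ≤ resField W G := by
  obtain ⟨τ, hτ0, hτ1⟩ := hτ
  intro z hz
  obtain ⟨x, hx, hxW, rfl⟩ := (mem_resField W).1 hz
  obtain ⟨g, hg, hxg⟩ := (near_iff W).1 (h x hx) τ hτ0
  have hlt : W.valuation (x - g) < 1 := lt_of_le_of_lt hxg hτ1
  have hd : x - g ∈ W := (W.valuation_le_one_iff _).1 hlt.le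
  have hgW : g ∈ W := by rw [show g = x - (x - g) by ring]; exact sub_mem hxW hd
  have h0 : res W x - res W g = 0 := by rw [← res_sub W hxW hgW, res_eq_zero_iff W hd]; exact hlt
  rw [sub_eq_zero.1 h0]
  exact res_mem_resField W hg

theorem valuation_eval_le_one {f : Polynomial Ω} (hf : ∀ i, f.coeff i ∈ W) {x : Ω} (hx : x ∈ W) : f.eval x ∈ W := by
  rw [eval_eq_sum_range]
  exact sum_mem fun i _ => mul_mem (hf i) (pow_mem hx i)

theorem valuation_eval_sub {f : Polynomial Ω} (hf : ∀ i, f.coeff i ∈ W) {x y : Ω} (hx : x ∈ W) (hy : y ∈ W) :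
    W.valuation (f.eval x - f.eval y) ≤ W.valuation (x - y) := by
  rw [eval_eq_sum_range, eval_eq_sum_range, ← Finset.sum_sub_distrib]
  refine W.valuation.map_sum_le fun i _ => ?_
  rw [← mul_sub, map_mul, ← geom_sum₂_mul, map_mul]
  refine (mul_le_of_le_one_left' ((W.valuation_le_one_iff _).2 (hf i))).trans
    (mul_le_of_le_one_left' ((W.valuation_le_one_iff _).2 ?_))
  exact sum_mem fun j _ => mul_mem (pow_mem hx _) (pow_mem hy _)

/-- Newton: a simple root close enough to an element of `G` is near `G`. -/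
theorem near_of_close [IsAlgClosed Ω] (hrk : RankOne W) (G : Subfield Ω) {f : Polynomial Ω} (hf : f.Monic)
    (hfW : ∀ i, f.coeff i ∈ W) (hfG : ∀ i, f.coeff i ∈ G) {θ β : Ω} (hθ : f.eval θ = 0) (hβ : β ∈ G)
    (hθW : θ ∈ W) (h : W.valuation (θ - β) < W.valuation (f.derivative.eval θ)) : Near W G θ := by
  classical
  obtain ⟨g, hg⟩ := dvd_iff_isRoot.2 (show f.IsRoot θ from hθ)
  have hgW : ∀ i, g.coeff i ∈ W := by
    have hgdeg : g = f /ₘ (X - C θ) := by
      rw [hg, mul_divByMonic_cancel_left _ (monic_X_sub_C θ)]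
    let f' : Polynomial W := ∑ i ∈ f.support, monomial i ⟨f.coeff i, hfW i⟩
    have hf' : f'.map W.subtype = f := by
      rw [Polynomial.map_sum]
      conv_rhs => rw [f.as_sum_support]
      exact Finset.sum_congr rfl fun i _ => by rw [Polynomial.map_monomial]; rfl
    have h2 : (f' /ₘ (X - C (⟨θ, hθW⟩ : W))).map W.subtype = g := by
      rw [map_divByMonic _ (monic_X_sub_C _), hf', Polynomial.map_sub, Polynomial.map_X, Polynomial.map_C, hgdeg]
      rfl
    intro i
    rw [← h2, coeff_map]
    exact ((f' /ₘ (X - C (⟨θ, hθW⟩ : W))).coeff i).2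
  have hder : ∀ y, f.derivative.eval y = g.eval y + (y - θ) * g.derivative.eval y := fun y => by
    rw [hg, derivative_mul, derivative_sub, derivative_X, derivative_C, sub_zero, one_mul, eval_add, eval_mul,
      eval_sub, eval_X, eval_C]
  have hgθ : f.derivative.eval θ = g.eval θ := by rw [hder, sub_self, zero_mul, add_zero]
  set δ := g.eval θ with hδdef
  rw [hgθ] at h
  have hδ0 : δ ≠ 0 := fun h0 => by rw [h0, map_zero] at h; exact not_lt_zero h
  have hδW : W.valuation δ ≤ 1 := (W.valuation_le_one_iff _).2 (valuation_eval_le_one W hgW hθW)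
  set ρ := (θ - β) / δ
  have hρ : W.valuation ρ < 1 := by
    rw [map_div₀, div_lt_one₀ (zero_lt_iff.2 ((Valuation.ne_zero_iff _).2 hδ0))]; exact h
  have hdW : ∀ i, g.derivative.coeff i ∈ W := fun i => by
    rw [coeff_derivative, ← Nat.cast_succ]
    exact mul_mem (hgW _) (natCast_mem W _)
  have key : ∀ n : ℕ, ∃ y ∈ G, W.valuation (θ - y) ≤ W.valuation (θ - β) * W.valuation ρ ^ n := by
    intro n
    induction n with
    | zero => exact ⟨β, hβ, by rw [pow_zero, mul_one]⟩
    | succ n ih =>
      obtain ⟨y, hy, hyb⟩ := ih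
      have hy1 : W.valuation (θ - y) ≤ W.valuation (θ - β) := hyb.trans (mul_le_of_le_one_right' (pow_le_one₀ zero_le hρ.le))
      have hy2 : W.valuation (θ - y) < W.valuation δ := lt_of_le_of_lt hy1 h
      have hyW : y ∈ W := by
        rw [show y = θ - (θ - y) by ring]
        exact sub_mem hθW ((W.valuation_le_one_iff _).1 (hy2.le.trans hδW))
      have hgy : W.valuation (g.eval y - δ) < W.valuation δ := lt_of_le_of_lt (valuation_eval_sub W hgW hyW hθW) (by
        rw [Valuation.map_sub_swap]; exact hy2)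
      have hg'y : g.derivative.eval y ∈ W := valuation_eval_le_one W hdW hyW
      have hrest : W.valuation (g.eval y - δ + (y - θ) * g.derivative.eval y) < W.valuation δ := by
        refine W.valuation.map_add_lt hgy ?_
        rw [map_mul, Valuation.map_sub_swap]
        exact lt_of_le_of_lt (mul_le_of_le_one_right' ((W.valuation_le_one_iff _).2 hg'y)) hy2
      have hfy : W.valuation (f.derivative.eval y) = W.valuation δ := by
        rw [hder, show g.eval y + (y - θ) * g.derivative.eval y = δ + (g.eval y - δ + (y - θ) * g.derivative.eval y) by ring]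
        exact W.valuation.map_add_eq_of_lt_left hrest
      have hfy0 : f.derivative.eval y ≠ 0 := fun h0 => by
        rw [h0, map_zero] at hfy; exact ((Valuation.ne_zero_iff _).2 hδ0) hfy.symm
      have hmemG : ∀ (q : Polynomial Ω), (∀ i, q.coeff i ∈ G) → q.eval y ∈ G := fun q hq => by
        rw [eval_eq_sum_range]
        exact sum_mem fun i _ => mul_mem (hq i) (pow_mem hy i)
      refine ⟨y - f.eval y / f.derivative.eval y, sub_mem hy (div_mem (hmemG f hfG) (hmemG _ fun i => by
        rw [coeff_derivative, ← Nat.cast_succ]; exact mul_mem (hfG _) (natCast_mem G _))), ?_⟩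
      have e : θ - (y - f.eval y / f.derivative.eval y) =
          -((θ - y) * (θ - y) * g.derivative.eval y) / f.derivative.eval y := by
        field_simp
        rw [hder]
        conv_lhs => rw [hg, eval_mul, eval_sub, eval_X, eval_C]
        ring
      rw [e, map_div₀, Valuation.map_neg, map_mul, map_mul, hfy]
      calc W.valuation (θ - y) * W.valuation (θ - y) * W.valuation (g.derivative.eval y) / W.valuation δ
          ≤ W.valuation (θ - y) * W.valuation (θ - y) / W.valuation δ :=
            div_le_div_of_nonneg_right (mul_le_of_le_one_right' ((W.valuation_le_one_iff _).2 hg'y)) zero_le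
        _ = W.valuation (θ - y) * (W.valuation (θ - y) / W.valuation δ) := by rw [mul_div_assoc]
        _ ≤ W.valuation (θ - β) * W.valuation ρ ^ n * W.valuation ρ := by
            refine mul_le_mul' hyb ?_
            rw [map_div₀]
            exact div_le_div_of_nonneg_right hy1 zero_le
        _ = _ := by rw [pow_succ, mul_assoc]
  rw [near_iff]
  intro c hc
  obtain ⟨n, hn⟩ := hrk ρ c hρ hc
  obtain ⟨y, hy, hyb⟩ := key n
  exact ⟨y, hy, hyb.trans ((mul_le_of_le_one_left' ((h.le).trans hδW)).trans hn)⟩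

end Groth.Agent.EtRam7.Sol
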