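import Groth.Agent.EtRam7.Sol.Valued
import Mathlib

/-! Algebraic extensions with the same values and perfect residue field. -/

set_option autoImplicit false
set_option linter.style.haveILetI false
set_option linter.unusedSectionVars false
universe u

namespace Groth.Agent.EtRam7.Sol

open IsLocalRing Polynomial

variable {Ω : Type u} [Field Ω] (W : ValuationSubring Ω)

/-- Fields with the values of a discretely valued subfield are discretely valued. -/
theorem dvr_of_valEq {E M : Subfield Ω} (hE : IsDiscreteValuationRing (W.comap E.subtype)) (hle : E ≤ M)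
    (h : ValEq W E M) : IsDiscreteValuationRing (W.comap M.subtype) := by
  classical
  obtain ⟨τ, hτ⟩ := IsDiscreteValuationRing.exists_irreducible (W.comap E.subtype)
  set t : Ω := ((τ : E) : Ω)
  have ht1 : W.valuation t < 1 :=
    (EtRam7.valuation_lt_one_comap W E.subtype).1 ((ValuationSubring.valuation_lt_one_iff _ τ).1 hτ.not_isUnit)
  have ht0 : t ≠ 0 := fun h0 => hτ.ne_zero (Subtype.ext (Subtype.ext h0))
  have hvt : 0 < W.valuation t := zero_lt_iff.2 ((Valuation.ne_zero_iff _).2 ht0)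
  have hval : ∀ x ∈ M, x ≠ 0 → W.valuation x ≤ 1 → ∃ n : ℕ, W.valuation x = W.valuation t ^ n := by
    intro x hx hx0 hx1
    obtain ⟨a, ha, hva⟩ := h x hx hx0
    let a' : W.comap E.subtype := ⟨⟨a, ha⟩, (W.valuation_le_one_iff a).1 (hva ▸ hx1)⟩
    have ha0 : a' ≠ 0 := fun h0 => hx0 ((Valuation.zero_iff W.valuation).1 (by
      rw [hva, show a = ((a' : E) : Ω) from rfl, h0]; simp))
    obtain ⟨n, u, hu⟩ := IsDiscreteValuationRing.eq_unit_mul_pow_irreducible ha0 hτ
    refine ⟨n, ?_⟩
    have hu1 : W.valuation ((((u : W.comap E.subtype) : E)) : Ω) = 1 := by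
      refine le_antisymm ((W.valuation_le_one_iff _).2 (u : W.comap E.subtype).2) (not_lt.1 fun hlt => ?_)
      exact (ValuationSubring.valuation_lt_one_iff _ _).2 ((EtRam7.valuation_lt_one_comap W E.subtype).2 hlt) u.isUnit
    have hau : a = ((((u : W.comap E.subtype) : E)) : Ω) * t ^ n :=
      congrArg (fun z => ((Subtype.val z : E) : Ω)) hu
    rw [hva, hau, map_mul, map_pow, hu1, one_mul]
  let tM : W.comap M.subtype := ⟨⟨t, hle (τ : E).2⟩, (W.valuation_le_one_iff _).1 ht1.le⟩
  have hunit : ∀ x : W.comap M.subtype, W.valuation ((x : M) : Ω) = 1 → IsUnit x := fun x hx => by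
    by_contra hn
    exact ((EtRam7.valuation_lt_one_comap W M.subtype).1 ((ValuationSubring.valuation_lt_one_iff _ x).1 hn)).ne hx
  have hle1 : ∀ x : W.comap M.subtype, W.valuation ((x : M) : Ω) ≤ 1 := fun x => (W.valuation_le_one_iff _).2 x.2
  refine IsDiscreteValuationRing.ofHasUnitMulPowIrreducibleFactorization ⟨tM, ⟨fun hu => ?_, fun a b hab => ?_⟩, ?_⟩
  · exact (ValuationSubring.valuation_lt_one_iff _ tM).2 ((EtRam7.valuation_lt_one_comap W M.subtype).2 ht1) hu
  · have hab' : t = ((a : M) : Ω) * ((b : M) : Ω) := congrArg (fun z => ((Subtype.val z : M) : Ω)) hab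
    have hne : ((a : M) : Ω) ≠ 0 ∧ ((b : M) : Ω) ≠ 0 := ⟨fun h0 => ht0 (by rw [hab', h0, zero_mul]),
      fun h0 => ht0 (by rw [hab', h0, mul_zero])⟩
    obtain ⟨n, hn⟩ := hval _ (a : M).2 hne.1 (hle1 a)
    obtain ⟨m, hm⟩ := hval _ (b : M).2 hne.2 (hle1 b)
    rcases Nat.eq_zero_or_pos n with h0 | h0
    · exact Or.inl (hunit a (by rw [hn, h0, pow_zero]))
    rcases Nat.eq_zero_or_pos m with h0' | h0'
    · exact Or.inr (hunit b (by rw [hm, h0', pow_zero]))
    exfalso
    have h2 : W.valuation t = W.valuation t ^ (n + m) := by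
      conv_lhs => rw [hab', map_mul, hn, hm, ← pow_add]
    have h3 := pow_lt_pow_right_of_lt_one₀ hvt ht1 (show 1 < n + m by omega)
    rw [pow_one, ← h2] at h3
    exact h3.false
  · intro x hx
    have hx0 : ((x : M) : Ω) ≠ 0 := fun h0 => hx (Subtype.ext (Subtype.ext h0))
    obtain ⟨n, hn⟩ := hval _ (x : M).2 hx0 (hle1 x)
    have hxt : W.valuation (((x : M) : Ω) / t ^ n) = 1 := by
      rw [map_div₀, map_pow, hn, div_self (pow_ne_zero _ hvt.ne')]
    let w : W.comap M.subtype := ⟨(x : M) / ⟨t, hle (τ : E).2⟩ ^ n, (W.valuation_le_one_iff _).1 hxt.le⟩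
    refine ⟨n, (hunit w hxt).unit, Subtype.ext (Subtype.ext ?_)⟩
    show t ^ n * (((x : M) : Ω) / t ^ n) = ((x : M) : Ω)
    field_simp

variable {K : Type u} [Field K] [Algebra K Ω]

/-- An algebraic extension with the values of `K` and perfect residue field. -/
theorem exists_perfect_residue (p : ℕ) [Fact p.Prime] [CharP (ResidueField W) p] [IsAlgClosed Ω] :
    ∃ Y : IntermediateField K Ω, Algebra.IsAlgebraic K Y ∧
      ValEq W (⊥ : IntermediateField K Ω).toSubfield Y.toSubfield ∧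
      ∀ z ∈ resField W Y.toSubfield, ∃ y ∈ resField W Y.toSubfield, y ^ p = z := by
  classical
  have hp : p.Prime := Fact.out
  let S : Set (IntermediateField K Ω) :=
    {Y | Y ≤ algebraicClosure K Ω ∧ ValEq W (⊥ : IntermediateField K Ω).toSubfield Y.toSubfield}
  have hbot : ⊥ ∈ S := ⟨bot_le, fun x hx _ => ⟨x, hx, rfl⟩⟩
  obtain ⟨Y, -, ⟨hYalg, hYval⟩, hmax⟩ := zorn_le_nonempty₀ S (fun c hc hch y hy => by
    haveI : Nonempty c := ⟨⟨y, hy⟩⟩
    refine ⟨⨆ Z : c, (Z : IntermediateField K Ω), ⟨iSup_le fun Z => (hc Z.2).1, fun x hx hx0 => ?_⟩,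
      fun z hz => le_iSup (fun Z : c => (Z : IntermediateField K Ω)) ⟨z, hz⟩⟩
    rw [IntermediateField.mem_toSubfield, ← SetLike.mem_coe, IntermediateField.coe_iSup_of_directed hch.directed] at hx
    obtain ⟨Z, hZ⟩ := Set.mem_iUnion.1 hx
    exact (hc Z.2).2 x hZ hx0) ⊥ hbot
  refine ⟨Y, ⟨fun y => (IntermediateField.isAlgebraic_iff (x := y)).2 (mem_algebraicClosure_iff.1 (hYalg y.2))⟩, hYval,
    fun z hz => ?_⟩
  by_contra hne
  push Not at hne
  obtain ⟨y, hy, hyW, rfl⟩ := (mem_resField W).1 hz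
  obtain ⟨c, hc⟩ := IsAlgClosed.exists_pow_nat_eq y hp.pos
  have hcW : c ∈ W := by
    rw [← W.valuation_le_one_iff, ← pow_le_one_iff hp.ne_zero, ← map_pow, hc, W.valuation_le_one_iff]
    exact hyW
  set k := resField W Y.toSubfield
  have hres : res W c ^ p = res W y := by
    rw [← hc, res_eq W hcW, res_eq W (pow_mem hcW p), ← map_pow]; rfl
  let yk : k := ⟨res W y, res_mem_resField W hy⟩
  have hirr : Irreducible (X ^ p - C yk : k[X]) :=
    X_pow_sub_C_irreducible_of_prime hp fun b hb => hne b b.2 (congrArg Subtype.val hb)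
  have hmin : minpoly k (res W c) = X ^ p - C yk := (minpoly.eq_of_irreducible_of_monic hirr (by
    rw [map_sub, map_pow, aeval_X, aeval_C, hres]; exact sub_self _) (monic_X_pow_sub_C _ hp.ne_zero)).symm
  have hYpoly : aeval c (X ^ p - C (⟨y, hy⟩ : Y)) = 0 := by
    rw [map_sub, map_pow, aeval_X, aeval_C, hc]; exact sub_self _
  have hint : IsIntegral Y c := ⟨_, monic_X_pow_sub_C _ hp.ne_zero, hYpoly⟩
  obtain ⟨hval, -⟩ := simple W Y hcW hint (by
    rw [hmin, natDegree_X_pow_sub_C]
    have h1 := natDegree_le_of_dvd (minpoly.dvd Y c hYpoly) (monic_X_pow_sub_C (⟨y, hy⟩ : Y) hp.ne_zero).ne_zero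
    rwa [natDegree_X_pow_sub_C] at h1)
  let Y' : IntermediateField K Ω := (IntermediateField.adjoin Y ({c} : Set Ω)).restrictScalars K
  have hcalg : c ∈ algebraicClosure K Ω := by
    rw [mem_algebraicClosure_iff]
    refine (IsIntegral.of_pow hp.pos ?_).isAlgebraic
    rw [hc]
    exact (mem_algebraicClosure_iff.1 (hYalg hy)).isIntegral
  have hY'S : Y' ∈ S := by
    refine ⟨?_, hYval.trans W hval⟩
    show (IntermediateField.adjoin Y ({c} : Set Ω)).restrictScalars K ≤ _
    rw [IntermediateField.restrictScalars_adjoin_eq_sup]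
    exact sup_le hYalg (IntermediateField.adjoin_simple_le_iff.2 hcalg)
  have hYY' : Y ≤ Y' := fun x hx => IntermediateField.algebraMap_mem (IntermediateField.adjoin Y ({c} : Set Ω)) (⟨x, hx⟩ : Y)
  exact hne (res W c) (res_mem_resField W (hmax hY'S hYY' (IntermediateField.mem_adjoin_simple_self Y c))) hres

end Groth.Agent.EtRam7.Sol
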