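import Groth.Agent.EtRam7.Sol.Finite
import Groth.Agent.EtRam7.Sol.PerfectRes
import Groth.Agent.EtRam7.Sol.Newton
import Groth.Agent.EtRam7.Sol.Counting
import Groth.Agent.EtRam7.EppGen.Approx
import Mathlib

/-! The completion of a weakly solved extension is generated by lifts of a separating basis. -/

set_option autoImplicit false
set_option linter.style.haveILetI false
set_option linter.unusedSectionVars false
universe u

namespace Groth.Agent.EtRam7.Sol

open IsLocalRing Polynomial IntermediateField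

variable {Ω : Type u} [Field Ω] (W : ValuationSubring Ω) {K : Type u} [Field K] [Algebra K Ω]

theorem resField_comap_le (E : IntermediateField K Ω) {n : ℕ} (U : Fin n → Ω) {k : Subfield (ResidueField W)}
    (hk : k ≤ resField W E.toSubfield) :
    (IntermediateField.adjoin k (Set.range fun i => res W (U i))).toSubfield ≤
      resField W (adjoin E (Set.range U)).toSubfield := by
  rw [adjoin_toSubfield, Subfield.closure_le, Set.union_subset_iff]
  refine ⟨?_, ?_⟩
  · rintro _ ⟨z, rfl⟩
    exact resField_mono W (fun x hx => IntermediateField.algebraMap_mem _ (⟨x, hx⟩ : E)) (hk z.2)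
  · rintro _ ⟨i, rfl⟩
    exact res_mem_resField W (subset_adjoin E (Set.range U) ⟨i, rfl⟩)

theorem isAlgebraic_range_of_card {r n : ℕ} (E : IntermediateField K Ω) {M : IntermediateField K Ω} (hEM : E ≤ M)
    (T : Fin r → Ω) (U : Fin n → Ω) (hTM : ∀ i, T i ∈ M) (hUM : ∀ i, U i ∈ M) (hU : AlgebraicIndependent E U)
    (halg : ∀ x ∈ M, IsAlgebraic (adjoin E (Set.range T)) x) (hrn : r ≤ n) {x : Ω} (hx : x ∈ M) :
    IsAlgebraic (adjoin E (Set.range U)) x := by
  let M' := IntermediateField.extendScalars hEM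
  let T' : Fin r → M' := fun i => ⟨T i, hTM i⟩
  let U' : Fin n → M' := fun i => ⟨U i, hUM i⟩
  have hT' : (adjoin E (Set.range T')).map M'.val = adjoin E (Set.range T) := by
    rw [adjoin_map, ← Set.range_comp]; rfl
  let f : adjoin E (Set.range T') →+* adjoin E (Set.range T) :=
    (M'.val.toRingHom.comp (adjoin E (Set.range T')).val.toRingHom).codRestrict _ fun y =>
      hT' ▸ ⟨_, y.2, rfl⟩
  haveI : Algebra.IsAlgebraic (adjoin E (Set.range T')) M' := ⟨fun y => by
    refine IsAlgebraic.of_ringHom_of_comp_eq f M'.val.toRingHom (halg (y : Ω) y.2) (fun z => ?_) Subtype.val_injective rfl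
    obtain ⟨w, hw, hwz⟩ := (hT'.symm ▸ z.2 : (z : Ω) ∈ (adjoin E (Set.range T')).map M'.val)
    exact ⟨⟨w, hw⟩, Subtype.ext hwz⟩⟩
  have h := isAlgebraic_adjoin_of_card T' U' (AlgebraicIndependent.of_comp M'.val hU) hrn ⟨x, hx⟩
  rw [IntermediateField.isAlgebraic_adjoin_iff] at h ⊢
  letI : Algebra (Algebra.adjoin E (Set.range U')) (Algebra.adjoin E (Set.range U)) :=
    ((M'.val.comp (Algebra.adjoin E (Set.range U')).val).codRestrict (Algebra.adjoin E (Set.range U)) fun y => by
      have : (Algebra.adjoin E (Set.range U')).map M'.val = Algebra.adjoin E (Set.range U) := by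
        rw [AlgHom.map_adjoin, ← Set.range_comp]; rfl
      exact this ▸ ⟨_, y.2, rfl⟩).toRingHom.toAlgebra
  haveI : IsScalarTower (Algebra.adjoin E (Set.range U')) (Algebra.adjoin E (Set.range U)) Ω :=
    IsScalarTower.of_algebraMap_eq fun _ => rfl
  have hinj : Function.Injective (algebraMap (Algebra.adjoin E (Set.range U')) (Algebra.adjoin E (Set.range U))) :=
    fun a b hab => Subtype.ext (Subtype.ext (congrArg (fun z : Algebra.adjoin E (Set.range U) => (z : Ω)) hab))
  have h2 : IsAlgebraic (Algebra.adjoin E (Set.range U')) x :=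
    (isAlgebraic_algebraMap_iff (A := Ω) (R := Algebra.adjoin E (Set.range U')) (S := M')
      (a := (⟨x, hx⟩ : M')) Subtype.val_injective).2 h
  exact h2.extendScalars hinj

set_option maxHeartbeats 1000000 in
/-- Lifts of a separating basis and of a primitive element approximate the whole field. -/
theorem exists_approx_level [IsAlgClosed Ω] (hrk : RankOne W) (E Lf : IntermediateField K Ω) [PerfectField (resField W E.toSubfield)]
    [IsDiscreteValuationRing (W.comap E.toSubfield.subtype)] {r : ℕ} (T : Fin r → Ω) (hT : ∀ i, T i ∈ W)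
    (hTL : ∀ i, T i ∈ Lf) (hind : AlgebraicIndependent (resField W E.toSubfield) fun i => res W (T i))
    (hfin : FiniteDimensional ((adjoin E (Set.range T)).restrictScalars K)
      (IntermediateField.extendScalars (le_sup_right : (adjoin E (Set.range T)).restrictScalars K ≤
        Lf ⊔ (adjoin E (Set.range T)).restrictScalars K)))
    {ϖ : Ω} (hϖE : ϖ ∈ E) (hϖ0 : ϖ ≠ 0) (hϖ1 : W.valuation ϖ < 1)
    (hmax : ∀ x ∈ Lf ⊔ E, W.valuation x < 1 → W.valuation x ≤ W.valuation ϖ) :
    ∃ (n : ℕ) (U : Fin n → Ω) (h : Polynomial Ω) (Θ : Ω),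
      (∀ i, U i ∈ W) ∧ AlgebraicIndependent (resField W E.toSubfield) (fun i => res W (U i)) ∧
      (∀ x ∈ Lf, IsAlgebraic (adjoin E (Set.range U)) x) ∧
      h.Monic ∧ (∀ i, h.coeff i ∈ W) ∧ (∀ i, h.coeff i ∈ adjoin E (Set.range U)) ∧
      Θ ∈ W ∧ h.eval Θ = 0 ∧ W.valuation (h.derivative.eval Θ) = 1 ∧
      ∀ x ∈ Lf, Near W (adjoin E (Set.range U ∪ {Θ})).toSubfield x := by
  classical
  set ET : IntermediateField K Ω := (adjoin E (Set.range T)).restrictScalars K with hET
  have hEET : E ≤ ET := fun x hx => IntermediateField.algebraMap_mem (adjoin E (Set.range T)) (⟨x, hx⟩ : E)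
  haveI : IsDiscreteValuationRing (W.comap ET.toSubfield.subtype) :=
    dvr_of_valEq W ‹_› hEET (gauss W E T hT hind).1
  haveI := hfin
  set M : IntermediateField K Ω := Lf ⊔ ET
  have hETM : ET ≤ M := le_sup_right
  have hEM : E ≤ M := hEET.trans hETM
  have hMle : M ≤ Lf ⊔ E := by
    refine sup_le le_sup_left ?_
    rw [hET, IntermediateField.restrictScalars_adjoin_eq_sup]
    refine sup_le le_sup_right (adjoin_le_iff.2 ?_)
    rintro _ ⟨i, rfl⟩
    exact (le_sup_left : Lf ≤ Lf ⊔ E) (hTL i)
  have hTM : ∀ i, T i ∈ M := fun i => (le_sup_left : Lf ≤ M) (hTL i)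
  obtain ⟨-, S, hS⟩ := dvr_of_finite_intermediate W hETM
  set k := resField W E.toSubfield
  -- the residue field as a finitely generated extension
  obtain ⟨lam, hlam, hlamfg⟩ := fg_of_eq_closure (k := k) (M := resField W M.toSubfield)
    (G := Set.range (fun i => res W (T i)) ∪ (S : Set (ResidueField W))) ((Set.finite_range _).union S.finite_toSet) (by
      rw [hS]
      refine le_antisymm (Subfield.closure_le.2 (Set.union_subset ?_ fun z hz => Subfield.subset_closure (Or.inr (Or.inr hz))))
        (Subfield.closure_mono ?_)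
      · intro z hz
        have hz' := (gauss W E T hT hind).2 hz
        rw [adjoin_toSubfield] at hz'
        refine Subfield.closure_mono ?_ hz'
        rintro y (⟨w, rfl⟩ | hy)
        · exact Or.inl w.2
        · exact Or.inr (Or.inl hy)
      · rintro y (hy | hy | hy)
        · exact Or.inl (resField_mono W (show E.toSubfield ≤ ET.toSubfield from hEET) hy)
        · obtain ⟨i, rfl⟩ := hy
          exact Or.inl (res_mem_resField W (subset_adjoin E (Set.range T) ⟨i, rfl⟩))
        · exact Or.inr hy)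
  haveI : Algebra.EssFiniteType k lam := IntermediateField.essFiniteType_iff.2 hlamfg
  have hlam' : ∀ z : lam, (z : ResidueField W) ∈ resField W M.toSubfield := fun z => hlam ▸ z.2
  obtain ⟨s, hs, hsep⟩ := exists_isTranscendenceBasis_and_isSeparable_of_perfectField k lam
  let Fu := IntermediateField.adjoin k (s : Set lam)
  haveI : Algebra.IsSeparable Fu lam := hsep
  haveI : Algebra.EssFiniteType Fu lam := Algebra.EssFiniteType.of_comp k Fu lam
  haveI : FiniteDimensional Fu lam := Algebra.finite_of_essFiniteType_of_isAlgebraic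
  obtain ⟨θb, hθb⟩ := Field.exists_primitive_element Fu lam
  let eqv : Fin s.card ≃ s := s.equivFin.symm
  set ub : Fin s.card → lam := fun i => (eqv i : lam)
  have hubr : Set.range ub = (s : Set lam) := by
    show Set.range (Subtype.val ∘ eqv) = _
    rw [eqv.surjective.range_comp, Subtype.range_coe]
  have hub : AlgebraicIndependent k ub := (algebraicIndependent_equiv eqv).2 hs.1
  choose U hUM hUW hUres using fun i => (mem_resField W).1 (hlam' (ub i))
  have hUind : AlgebraicIndependent k fun i => res W (U i) := by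
    rw [show (fun i => res W (U i)) = lam.val ∘ ub from funext hUres]
    exact hub.map' Subtype.val_injective
  -- the number of elements
  have hrn : r ≤ s.card := by
    let t' : Fin r → lam := fun i => ⟨res W (T i),
      (hlam.symm ▸ res_mem_resField W (hTM i) : res W (T i) ∈ lam.toSubfield)⟩
    haveI : Algebra.IsAlgebraic (adjoin k (Set.range ub)) lam := by
      rw [hubr]; exact Algebra.IsSeparable.isAlgebraic Fu lam
    exact card_le_of_indep t' ub (AlgebraicIndependent.of_comp lam.val hind)
  have halgU : ∀ x ∈ Lf, IsAlgebraic (adjoin E (Set.range U)) x := fun x hx => by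
    refine isAlgebraic_range_of_card E hEM T U hTM hUM (indep_of_res W E U hUW hUind) (fun y hy => ?_) hrn
      ((le_sup_left : Lf ≤ M) hx)
    have h1 : IsAlgebraic ET (⟨y, hy⟩ : IntermediateField.extendScalars hETM) := Algebra.IsAlgebraic.isAlgebraic _
    exact (isAlgebraic_algebraMap_iff (A := Ω) (R := ET) (S := IntermediateField.extendScalars hETM)
      (a := ⟨y, hy⟩) Subtype.val_injective).2 h1
  -- lift the minimal polynomial
  set hb := minpoly Fu θb
  have hbint : IsIntegral Fu θb := Algebra.IsIntegral.isIntegral θb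
  set d := hb.natDegree
  have hd : 0 < d := minpoly.natDegree_pos hbint
  have hFu : ∀ c : Fu, ((c : lam) : ResidueField W) ∈ resField W (adjoin E (Set.range U)).toSubfield := fun c => by
    refine resField_comap_le W E U le_rfl ?_
    have h1 : ((c : lam) : ResidueField W) ∈ (adjoin k (Set.range ub)).map lam.val := ⟨c, hubr.symm ▸ c.2, rfl⟩
    rw [adjoin_map, ← Set.range_comp] at h1
    rw [show (fun i => res W (U i)) = lam.val ∘ ub from funext hUres]
    exact h1
  choose a haU haW hares using fun i => (mem_resField W).1 (hFu (hb.coeff i))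
  let f₀ : Polynomial W := EppGen.polyOf d fun i => ⟨a i, haW i⟩
  have hf₀ : f₀.Monic := EppGen.monic_polyOf _ _
  let ι : Fu →+* ResidueField W := lam.val.toRingHom.comp Fu.val.toRingHom
  have hf₀res : f₀.map (residue W) = hb.map ι := by
    ext i
    rw [coeff_map, coeff_map, EppGen.coeff_polyOf]
    split_ifs with h1 h2
    · exact (res_eq W (haW i)).symm.trans (hares i)
    · rw [h2, map_one, (minpoly.monic hbint).coeff_natDegree, map_one]
    · rw [map_zero, coeff_eq_zero_of_natDegree_lt (by omega), map_zero]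
  set f : Polynomial Ω := f₀.map W.subtype
  have hfW : ∀ i, f.coeff i ∈ W := fun i => by rw [coeff_map]; exact (f₀.coeff i).2
  have hfU : ∀ i, f.coeff i ∈ adjoin E (Set.range U) := fun i => by
    rw [coeff_map, EppGen.coeff_polyOf]
    split_ifs
    · exact haU i
    · exact one_mem _
    · exact zero_mem _
  have heval : ∀ (y : Ω) (hy : y ∈ W) (q : Polynomial W), res W ((q.map W.subtype).eval y) = (q.map (residue W)).eval (res W y) := by
    intro y hy q
    rw [eval_map, show eval₂ W.subtype y q = ((q.eval ⟨y, hy⟩ : W) : Ω) from eval₂_at_apply W.subtype ⟨y, hy⟩, res_coe,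
      eval_map, res_eq W hy, eval₂_at_apply]
  obtain ⟨β, hβM, hβW, hβres⟩ := (mem_resField W).1 (hlam' θb)
  have hroot : (hb.map ι).eval ((θb : lam) : ResidueField W) = 0 := by
    rw [eval_map, show ι = (lam.val.toRingHom).comp (algebraMap Fu lam) from rfl,
      show ((θb : lam) : ResidueField W) = lam.val.toRingHom θb from rfl, ← hom_eval₂, ← aeval_def, minpoly.aeval, map_zero]
  have hβ0 : W.valuation (f.eval β) < 1 := by
    rw [← res_eq_zero_iff W (valuation_eval_le_one W hfW hβW), heval β hβW, hf₀res, hβres, hroot]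
  have hfd : f.natDegree = d := by rw [hf₀.natDegree_map, EppGen.natDegree_polyOf]
  obtain ⟨Θ, hΘroot, hΘclose⟩ := EppGen.exists_root_close W (hf₀.map W.subtype) (hfd.symm ▸ hd) β
  have hΘ0 : f.eval Θ = 0 := hΘroot
  have hΘ1 : W.valuation (β - Θ) < 1 := by
    by_contra hh
    exact (lt_of_le_of_lt hΘclose hβ0).not_ge (one_le_pow₀ (not_lt.1 hh))
  have hΘW : Θ ∈ W := EppGen.mem_of_root W hf₀ (by rw [← eval_map]; exact hΘ0)
  have hΘres : res W Θ = (θb : ResidueField W) := by
    rw [← hβres]
    refine (sub_eq_zero.1 ?_).symm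
    rw [← res_sub W hβW hΘW, res_eq_zero_iff W (sub_mem hβW hΘW)]; exact hΘ1
  have hΘder : W.valuation (f.derivative.eval Θ) = 1 := by
    refine valuation_eq_one W (valuation_eval_le_one W (fun i => ?_) hΘW) ?_
    · rw [derivative_map, coeff_map]; exact (f₀.derivative.coeff i).2
    rw [derivative_map, heval Θ hΘW, ← derivative_map, hf₀res, hΘres, derivative_map, eval_map,
      show ι = (lam.val.toRingHom).comp (algebraMap Fu lam) from rfl,
      show ((θb : lam) : ResidueField W) = lam.val.toRingHom θb from rfl, ← hom_eval₂, ← aeval_def]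
    exact fun h0 => (Algebra.IsSeparable.isSeparable Fu θb).aeval_derivative_ne_zero (minpoly.aeval Fu θb)
      (Subtype.ext h0)
  refine ⟨s.card, U, f, Θ, hUW, hUind, halgU, hf₀.map _, hfW, hfU, hΘW, hΘ0, hΘder, ?_⟩
  -- approximation
  set G₀ := adjoin E (Set.range U ∪ {Θ})
  have hτ : ∃ τ : Ω, τ ≠ 0 ∧ W.valuation τ < 1 := ⟨ϖ, hϖ0, hϖ1⟩
  have hUM' : ∀ x ∈ adjoin E (Set.range U), x ∈ M := fun x hx =>
    (adjoin_le_iff (T := IntermediateField.extendScalars hEM)).2 (by rintro _ ⟨i, rfl⟩; exact hUM i) hx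
  have hΘnear : Near W M.toSubfield Θ := near_of_close W hrk M.toSubfield (hf₀.map _) hfW (fun i => hUM' _ (hfU i)) hΘ0 hβM hΘW
    (by rw [hΘder, Valuation.map_sub_swap]; exact hΘ1)
  have hG₀M : ∀ y ∈ G₀.toSubfield, Near W M.toSubfield y := by
    refine le_near W hτ (S := Set.range (algebraMap E Ω) ∪ (Set.range U ∪ {Θ})) (adjoin_toSubfield E _).le ?_
    rintro y (⟨c, rfl⟩ | ⟨i, rfl⟩ | rfl)
    · exact near_of_mem W (hEM c.2)
    · exact near_of_mem W (hUM i)
    · exact hΘnear
  have hres0 : resField W M.toSubfield ≤ resField W G₀.toSubfield := by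
    intro z hz
    have hz' : (⟨z, (hlam.symm ▸ hz : z ∈ lam.toSubfield)⟩ : lam) ∈ IntermediateField.adjoin Fu {θb} := hθb ▸ IntermediateField.mem_top
    have hle : (IntermediateField.adjoin Fu {θb}).toSubfield ≤ (resField W G₀.toSubfield).comap lam.val.toRingHom := by
      rw [adjoin_toSubfield, Subfield.closure_le, Set.union_subset_iff]
      refine ⟨?_, ?_⟩
      · rintro _ ⟨c, rfl⟩
        exact resField_mono W (show (adjoin E (Set.range U)).toSubfield ≤ G₀.toSubfield from
          IntermediateField.adjoin.mono E _ _ Set.subset_union_left) (hFu c)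
      · intro y hy
        rw [Set.mem_singleton_iff] at hy
        subst y
        show ((θb : lam) : ResidueField W) ∈ resField W G₀.toSubfield
        rw [← hΘres]
        exact res_mem_resField W (subset_adjoin E _ (Or.inr rfl))
    exact hle hz'
  have hPn : ∀ (m : ℕ), ∀ x ∈ M, x ∈ W → ∃ g ∈ G₀, W.valuation (x - g) ≤ W.valuation ϖ ^ m := by
    intro m
    induction m with
    | zero => exact fun x _ hxW => ⟨0, zero_mem _, by rw [sub_zero, pow_zero]; exact (W.valuation_le_one_iff x).2 hxW⟩
    | succ m ih =>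
      intro x hx hxW
      obtain ⟨g₀, hg₀, hg₀W, hg₀res⟩ := (mem_resField W).1 (hres0 (res_mem_resField W hx (E := M.toSubfield)))
      obtain ⟨g₁, hg₁, hg₁c⟩ := (near_iff W).1 (hG₀M g₀ hg₀) (ϖ ^ (m + 1)) (pow_ne_zero _ hϖ0)
      rw [map_pow] at hg₁c
      have hlt1 : W.valuation (g₀ - g₁) < 1 := lt_of_le_of_lt hg₁c (pow_lt_one₀ zero_le hϖ1 (Nat.succ_ne_zero m))
      have hlt2 : W.valuation (x - g₀) < 1 := by
        rw [← res_eq_zero_iff W (sub_mem hxW hg₀W), res_sub W hxW hg₀W, hg₀res, sub_self]
      have hlt : W.valuation (x - g₁) < 1 := by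
        rw [show x - g₁ = (x - g₀) + (g₀ - g₁) by ring]; exact W.valuation.map_add_lt hlt2 hlt1
      have hle : W.valuation (x - g₁) ≤ W.valuation ϖ := hmax _ (hMle (sub_mem hx hg₁)) hlt
      have hx' : (x - g₁) / ϖ ∈ W := (W.valuation_le_one_iff _).1 (by rw [map_div₀]; exact div_le_one_of_le₀ hle zero_le)
      obtain ⟨g', hg', hg'c⟩ := ih _ (div_mem (sub_mem hx hg₁) (hEM hϖE)) hx'
      refine ⟨g₀ + ϖ * g', add_mem hg₀ (mul_mem (IntermediateField.algebraMap_mem G₀ (⟨ϖ, hϖE⟩ : E)) hg'), ?_⟩
      rw [show x - (g₀ + ϖ * g') = ϖ * ((x - g₁) / ϖ - g') + (g₁ - g₀) by field_simp; ring]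
      refine W.valuation.map_add_le ?_ (by rwa [Valuation.map_sub_swap])
      rw [map_mul, pow_succ']
      exact mul_le_mul' le_rfl hg'c
  have hintg : ∀ x ∈ M, x ∈ W → Near W G₀.toSubfield x := fun x hx hxW => (near_iff W).2 fun c hc => by
    obtain ⟨m, hm⟩ := hrk ϖ c hϖ1 hc
    obtain ⟨g, hg, hgc⟩ := hPn m x hx hxW
    exact ⟨g, hg, hgc.trans hm⟩
  intro x hx
  rcases W.mem_or_inv_mem x with hxW | hxW
  · exact hintg x ((le_sup_left : Lf ≤ M) hx) hxW
  · have := EppGen.Approximable.inv W (fun _ : ℕ => G₀.toSubfield) hτ (hintg x⁻¹ (inv_mem ((le_sup_left : Lf ≤ M) hx)) hxW)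
    rwa [inv_inv] at this

end Groth.Agent.EtRam7.Sol
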