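import Groth.Agent.EtRam7.Sol.Residual
import Groth.Agent.EtRam7.WeakSolMain
import Mathlib

/-! Finite extensions inside a valued field. -/

set_option autoImplicit false
set_option linter.style.haveILetI false
set_option linter.unusedSectionVars false
universe u

namespace Groth.Agent.EtRam7.Sol

open IsLocalRing Polynomial

variable {Ω : Type u} [Field Ω] (W : ValuationSubring Ω)

/-- Finite extensions of discretely valued fields are discretely valued, with finite residue extension. -/
theorem dvr_of_finite {E M : Subfield Ω} (hle : E ≤ M) [IsDiscreteValuationRing (W.comap E.subtype)]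
    (hfin : letI := (Subfield.inclusion hle).toAlgebra; FiniteDimensional E M) :
    IsDiscreteValuationRing (W.comap M.subtype) ∧ ∃ S : Finset (ResidueField W),
      resField W M = Subfield.closure ((resField W E : Set (ResidueField W)) ∪ S) := by
  letI : Algebra E M := (Subfield.inclusion hle).toAlgebra
  haveI : FiniteDimensional E M := hfin
  set A := W.comap E.subtype
  set V := W.comap M.subtype
  have hAK : EtRam.Dominates A ((algebraMap E M).comp (algebraMap A E)) V :=
    ⟨fun a => a.2, fun a ha => (valuation_lt_one_comap W M.subtype).2 (show W.valuation ((a : E) : Ω) < 1 from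
      (valuation_lt_one_comap W E.subtype).1 ((ValuationSubring.valuation_lt_one_iff _ a).1 ha))⟩
  haveI : IsDiscreteValuationRing V := isDiscreteValuationRing_of_dominates_finite (A := A) (K := E) V hAK
  letI : Algebra A M := ((algebraMap E M).comp (algebraMap A E)).toAlgebra
  haveI : IsScalarTower A E M := IsScalarTower.of_algebraMap_eq fun _ => rfl
  letI : Algebra A V := (((algebraMap E M).comp (algebraMap A E)).codRestrict V hAK.1).toAlgebra
  haveI : IsScalarTower A V M := IsScalarTower.of_algebraMap_eq fun _ => rfl
  haveI : IsLocalHom (algebraMap A V) := isLocalHom_of_dominates _ V hAK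
  haveI : Module.Finite (ResidueField A) (ResidueField V) := finite_residueField_of_dominates (K := E) (F := M) V
  classical
  let j : ResidueField V →+* ResidueField W := ResidueField.map (EtRam.inclOfComap W M.subtype)
  obtain ⟨S, hS⟩ := (Module.Finite.fg_top : (⊤ : Submodule (ResidueField A) (ResidueField V)).FG)
  refine ⟨inferInstance, S.image j, le_antisymm (fun z hz => ?_) ?_⟩
  · obtain ⟨y, rfl⟩ := hz
    have hy : y ∈ Submodule.span (ResidueField A) (S : Set (ResidueField V)) := hS ▸ Submodule.mem_top
    induction hy using Submodule.span_induction with
    | mem x hx => exact Subfield.subset_closure (Or.inr (Finset.mem_coe.2 (Finset.mem_image_of_mem j hx)))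
    | zero => rw [map_zero]; exact zero_mem _
    | add x y _ _ hx hy => rw [map_add]; exact add_mem hx hy
    | smul c x _ hx =>
      rw [Algebra.smul_def, map_mul]
      refine mul_mem (Subfield.subset_closure (Or.inl ?_)) hx
      obtain ⟨a, rfl⟩ := residue_surjective c
      exact ⟨residue A a, rfl⟩
  · rw [Subfield.closure_le, Set.union_subset_iff]
    refine ⟨fun z hz => resField_mono W hle hz, fun z hz => ?_⟩
    obtain ⟨y, -, rfl⟩ := Finset.mem_image.1 (Finset.mem_coe.1 hz)
    exact ⟨y, rfl⟩

variable {K : Type u} [Field K] [Algebra K Ω]

theorem dvr_of_finite_intermediate {E M : IntermediateField K Ω} (hle : E ≤ M)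
    [IsDiscreteValuationRing (W.comap E.toSubfield.subtype)] [FiniteDimensional E (IntermediateField.extendScalars hle)] :
    IsDiscreteValuationRing (W.comap M.toSubfield.subtype) ∧ ∃ S : Finset (ResidueField W),
      resField W M.toSubfield = Subfield.closure ((resField W E.toSubfield : Set (ResidueField W)) ∪ S) := by
  refine dvr_of_finite W (E := E.toSubfield) (M := M.toSubfield) hle ?_
  exact (inferInstance : FiniteDimensional E (IntermediateField.extendScalars hle))

/-- A finitely generated field is finite over a field over which it is algebraic. -/
theorem finite_sup {E N : IntermediateField K Ω} (hN : N.FG) (halg : ∀ x ∈ N, IsAlgebraic E x) :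
    FiniteDimensional E (IntermediateField.extendScalars (le_sup_right : E ≤ N ⊔ E)) := by
  obtain ⟨S, rfl⟩ := hN
  have h : IntermediateField.extendScalars (le_sup_right : E ≤ IntermediateField.adjoin K (S : Set Ω) ⊔ E) =
      IntermediateField.adjoin E (S : Set Ω) := by
    apply IntermediateField.restrictScalars_injective K
    rw [IntermediateField.extendScalars_restrictScalars, IntermediateField.restrictScalars_adjoin_eq_sup, sup_comm]
  rw [h]
  exact IntermediateField.finiteDimensional_adjoin fun x hx =>
    (halg x (IntermediateField.subset_adjoin K _ hx)).isIntegral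

end Groth.Agent.EtRam7.Sol
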