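import Groth.Agent.EtRam7.Sol.Newton
import Mathlib

/-! Separable integral equations over fields generated by roots. -/

set_option autoImplicit false
set_option linter.style.haveILetI false
set_option linter.unusedSectionVars false
universe u

namespace Groth.Agent.EtRam7.Sol

open IsLocalRing Polynomial IntermediateField

variable {Ω : Type u} [Field Ω] (W : ValuationSubring Ω) {K : Type u} [Field K] [Algebra K Ω]

theorem coeff_mem_of_roots_mem [IsAlgClosed Ω] {f : Polynomial Ω} (hf : f.Monic) (h : ∀ r, f.IsRoot r → r ∈ W)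
    (i : ℕ) : f.coeff i ∈ W := by
  have hs : f = (f.roots.map fun r => X - C r).prod := (IsAlgClosed.splits f).eq_prod_roots_of_monic hf
  let m : Multiset W := f.roots.attach.map fun r => ⟨r.1, h r.1 (isRoot_of_mem_roots r.2)⟩
  have h1 : ((m.map fun r => X - C r).prod).map W.subtype = f := by
    conv_rhs => rw [hs, ← Multiset.attach_map_val f.roots]
    simp only [m, Polynomial.map_multiset_prod, Multiset.map_map]
    congr 1
    refine Multiset.map_congr rfl fun r _ => ?_
    simp only [Function.comp_apply, Polynomial.map_sub, Polynomial.map_X, Polynomial.map_C]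
    rfl
  rw [← h1, coeff_map]
  exact (((m.map fun r => X - C r).prod).coeff i).2

/-- A multiple by a small scalar has an integral minimal polynomial. -/
theorem exists_scale [IsAlgClosed Ω] (hrk : RankOne W) {π : K} (hπ0 : π ≠ 0)
    (hπ1 : W.valuation (algebraMap K Ω π) < 1) (F : IntermediateField K Ω) {x : Ω} (hx : IsIntegral F x) :
    ∃ a : K, a ≠ 0 ∧ ∀ i, ((minpoly F (algebraMap K Ω a * x)).map (algebraMap F Ω)).coeff i ∈ W := by
  classical
  have h : ∀ r : Ω, ∃ n : ℕ, W.valuation (algebraMap K Ω π ^ n * r) ≤ 1 := fun r => by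
    by_cases hr : r = 0
    · exact ⟨0, by simp [hr]⟩
    · obtain ⟨n, hn⟩ := hrk (algebraMap K Ω π) r⁻¹ hπ1 (inv_ne_zero hr)
      refine ⟨n, ?_⟩
      rw [map_inv₀, ← one_div, le_div_iff₀ (zero_lt_iff.2 ((Valuation.ne_zero_iff _).2 hr))] at hn
      rwa [map_mul, map_pow]
  choose n hn using h
  let R := ((minpoly F x).aroots Ω).toFinset
  refine ⟨π ^ R.sup n, pow_ne_zero _ hπ0, fun i => ?_⟩
  set a := algebraMap K Ω (π ^ R.sup n)
  have ha0 : a ≠ 0 := (_root_.map_ne_zero _).2 (pow_ne_zero _ hπ0)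
  have hint : IsIntegral F (a * x) := by
    refine IsIntegral.mul ?_ hx
    rw [show a = algebraMap F Ω (algebraMap K F (π ^ R.sup n)) from rfl]
    exact isIntegral_algebraMap
  refine coeff_mem_of_roots_mem W ((minpoly.monic hint).map _) (fun r hr => ?_) i
  have h1 : aeval (a⁻¹ * r) (minpoly F x) = 0 := by
    have hdvd : minpoly F (a * x) ∣ (minpoly F x).comp (C (algebraMap K F (π ^ R.sup n))⁻¹ * X) := minpoly.dvd _ _ (by
      rw [aeval_comp, map_mul, aeval_C, aeval_X, map_inv₀, show algebraMap F Ω (algebraMap K F (π ^ R.sup n)) = a from rfl,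
        inv_mul_cancel_left₀ ha0, minpoly.aeval])
    obtain ⟨q, hq⟩ := hdvd
    have h2 : aeval r ((minpoly F x).comp (C (algebraMap K F (π ^ R.sup n))⁻¹ * X)) = 0 := by
      rw [hq, map_mul, aeval_def r (minpoly F (a * x)), ← eval_map, hr, zero_mul]
    rwa [aeval_comp, map_mul, aeval_C, aeval_X, map_inv₀, show algebraMap F Ω (algebraMap K F (π ^ R.sup n)) = a from rfl] at h2
  have hmem : a⁻¹ * r ∈ R := Multiset.mem_toFinset.2 (mem_aroots.2 ⟨minpoly.ne_zero hx, h1⟩)
  rw [← W.valuation_le_one_iff]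
  calc W.valuation r = W.valuation (algebraMap K Ω π) ^ (R.sup n) * W.valuation (a⁻¹ * r) := by
        rw [← map_pow, ← map_pow (algebraMap K Ω), ← map_mul, mul_inv_cancel_left₀ ha0]
    _ ≤ W.valuation (algebraMap K Ω π) ^ n (a⁻¹ * r) * W.valuation (a⁻¹ * r) :=
        mul_le_mul_of_nonneg_right (pow_le_pow_of_le_one zero_le hπ1.le (Finset.le_sup hmem)) zero_le
    _ ≤ 1 := by rw [← map_pow, ← map_mul]; exact hn _

/-- Algebraic elements are separable over a field generated by algebraic elements and `p ^ m`-th roots. -/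
theorem exists_roots_separable [IsAlgClosed Ω] (Kc : IntermediateField K Ω) [IsAlgClosed Kc] {n : ℕ} (U : Fin n → Ω)
    (Θs : Finset Ω) (halg : ∀ x ∈ Θs, IsAlgebraic (adjoin Kc (Set.range U)) x) :
    ∃ (q : ℕ) (S : Fin n → Ω), q ≠ 0 ∧ (∀ i, S i ^ q = U i) ∧
      ∀ x ∈ Θs, IsSeparable (adjoin Kc (Set.range S)) x := by
  classical
  obtain ⟨e, he⟩ := ExpChar.exists Ω
  haveI := he
  haveI : Fact (e = e) := ⟨rfl⟩
  set Φ₀ := adjoin Kc (Set.range U)
  haveI : ExpChar Φ₀ e := (RingHom.expChar_iff (algebraMap Φ₀ Ω) (algebraMap Φ₀ Ω).injective e).2 inferInstance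
  let Φ := perfectClosure Φ₀ Ω
  haveI : PerfectField Φ := inferInstanceAs (PerfectField (perfectClosure Φ₀ Ω))
  have hsep : ∀ x ∈ Θs, IsSeparable Φ x := fun x hx =>
    PerfectField.separable_of_irreducible (minpoly.irreducible ((halg x hx).isIntegral.tower_top))
  have hm : ∀ c : Φ, ∃ m : ℕ, ((c : Ω)) ^ e ^ m ∈ Φ₀ := fun c => by
    obtain ⟨m, y, hy⟩ := (mem_perfectClosure_iff_pow_mem e).1 c.2
    exact ⟨m, hy ▸ y.2⟩
  choose m hm using hm
  let M := Θs.sup fun x => (minpoly Φ x).support.sup fun i => m ((minpoly Φ x).coeff i)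
  have he0 : e ^ M ≠ 0 := pow_ne_zero _ (expChar_pos Ω e).ne'
  choose S hS using fun i => IsAlgClosed.exists_pow_nat_eq (U i) (Nat.pos_of_ne_zero he0)
  refine ⟨e ^ M, S, he0, hS, fun x hx => ?_⟩
  set Fs := adjoin Kc (Set.range S)
  let φ := iterateFrobenius Ω e M
  have hle : Φ₀.toSubfield ≤ Fs.toSubfield.map φ := by
    rw [adjoin_toSubfield, Subfield.closure_le, Set.union_subset_iff]
    refine ⟨?_, ?_⟩
    · rintro _ ⟨c, rfl⟩
      obtain ⟨d, hd⟩ := IsAlgClosed.exists_pow_nat_eq c (Nat.pos_of_ne_zero he0)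
      exact ⟨d, Fs.algebraMap_mem d, (iterateFrobenius_def (R := Ω) e M (d : Ω)).trans (congrArg Subtype.val hd)⟩
    · rintro _ ⟨i, rfl⟩
      exact ⟨S i, subset_adjoin _ _ ⟨i, rfl⟩, (iterateFrobenius_def (R := Ω) e M (S i)).trans (hS i)⟩
  have hcoeff : ∀ i, ((((minpoly Φ x).coeff i : Φ)) : Ω) ∈ Fs := by
    intro i
    by_cases hi : (minpoly Φ x).coeff i = 0
    · rw [hi]; exact zero_mem _
    have h1 : m ((minpoly Φ x).coeff i) ≤ M :=
      le_trans (Finset.le_sup (f := fun i => m ((minpoly Φ x).coeff i)) (mem_support_iff.2 hi))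
        (Finset.le_sup (f := fun x => (minpoly Φ x).support.sup fun i => m ((minpoly Φ x).coeff i)) hx)
    obtain ⟨k, hk⟩ := Nat.exists_eq_add_of_le h1
    have h2 : φ (((minpoly Φ x).coeff i : Φ) : Ω) ∈ Φ₀.toSubfield := by
      rw [iterateFrobenius_def, hk, pow_add, pow_mul]
      exact pow_mem (hm _) _
    obtain ⟨y, hy, hye⟩ := hle h2
    exact (iterateFrobenius_inj Ω e M) hye ▸ hy
  obtain ⟨g, hg⟩ := (lifts_iff_coeff_lifts (f := algebraMap Fs Ω) ((minpoly Φ x).map (algebraMap Φ Ω))).2 fun i =>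
    ⟨⟨_, hcoeff i⟩, (coeff_map (p := minpoly Φ x) (algebraMap Φ Ω) i).symm⟩
  have hg' : g.map (algebraMap Fs Ω) = (minpoly Φ x).map (algebraMap Φ Ω) := hg
  have hgsep : g.Separable := by
    rw [← separable_map (algebraMap Fs Ω), hg', separable_map]; exact hsep x hx
  refine hgsep.of_dvd (minpoly.dvd Fs x ?_)
  rw [aeval_def, ← eval_map, hg', eval_map, ← aeval_def, minpoly.aeval]

/-- Membership in a generated field uses finitely many of the constants. -/
theorem exists_finset_constants (C₀ X : Set Ω) {x : Ω} (hx : x ∈ adjoin K (C₀ ∪ X)) :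
    ∃ C : Finset Ω, (C : Set Ω) ⊆ C₀ ∧ x ∈ adjoin K ((C : Set Ω) ∪ X) := by
  classical
  obtain ⟨T, hT, hxT⟩ := exists_finset_of_mem_adjoin hx
  refine ⟨T.filter (· ∈ C₀), fun y hy => (Finset.mem_filter.1 hy).2, ?_⟩
  refine IntermediateField.adjoin.mono K _ _ (fun y hy => ?_) hxT
  by_cases h : y ∈ C₀
  · exact Or.inl (Finset.mem_filter.2 ⟨hy, h⟩)
  · exact Or.inr ((hT hy).resolve_left h)

end Groth.Agent.EtRam7.Sol
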