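import Groth.Agent.EtRam7.Sol.WeakLevel
import Groth.Agent.EtRam7.Sol.ApproxLevel
import Groth.Agent.EtRam7.Sol.Separable
import Groth.Agent.EtRam7.Sol.ResidualGeom
import Mathlib

/-! A finite extension of the base field solving the ramification. -/

set_option autoImplicit false
set_option linter.style.haveILetI false
set_option linter.unusedSectionVars false
universe u

namespace Groth.Agent.EtRam7.Sol

open IsLocalRing Polynomial IntermediateField

variable {Ω : Type u} [Field Ω] (W : ValuationSubring Ω) {K : Type u} [Field K] [Algebra K Ω]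

/-- A monic lift of a residual minimal polynomial and a root with the given residue. -/
theorem exists_root_lift [IsAlgClosed Ω] (F : IntermediateField K Ω) {Θ : Ω} (hΘ : Θ ∈ W)
    (hint : IsIntegral (resField W F.toSubfield) (res W Θ)) :
    ∃ Θ', Θ' ∈ W ∧ W.valuation (Θ - Θ') < 1 ∧ IsIntegral F Θ' ∧
      (minpoly F Θ').natDegree ≤ (minpoly (resField W F.toSubfield) (res W Θ)).natDegree := by
  classical
  set k := resField W F.toSubfield
  set hb := minpoly k (res W Θ)
  set d := hb.natDegree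
  have hd : 0 < d := minpoly.natDegree_pos hint
  choose a haF haW hares using fun i => (mem_resField W).1 (hb.coeff i).2
  let f₀ : Polynomial W := EppGen.polyOf d fun i => ⟨a i, haW i⟩
  have hf₀ : f₀.Monic := EppGen.monic_polyOf _ _
  have hf₀res : f₀.map (residue W) = hb.map (algebraMap k (ResidueField W)) := by
    ext i
    rw [coeff_map, coeff_map, EppGen.coeff_polyOf]
    split_ifs with h1 h2
    · exact (res_eq W (haW i)).symm.trans (hares i)
    · rw [h2, map_one, (minpoly.monic hint).coeff_natDegree, map_one]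
    · rw [map_zero, coeff_eq_zero_of_natDegree_lt (by omega), map_zero]
  set f : Polynomial Ω := f₀.map W.subtype
  have hfd : f.natDegree = d := by rw [hf₀.natDegree_map, EppGen.natDegree_polyOf]
  have hev : W.valuation (f.eval Θ) < 1 := by
    have h1 : eval₂ W.subtype Θ f₀ = ((f₀.eval ⟨Θ, hΘ⟩ : W) : Ω) := eval₂_at_apply W.subtype ⟨Θ, hΘ⟩
    have h2 : eval₂ W.subtype Θ f₀ ∈ W := h1 ▸ (f₀.eval ⟨Θ, hΘ⟩).2
    rw [eval_map, ← res_eq_zero_iff W h2, h1, res_coe, ← eval₂_at_apply, ← eval_map, hf₀res, eval_map,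
      ← res_eq W hΘ, ← aeval_def, minpoly.aeval]
  obtain ⟨Θ', hroot, hclose⟩ := EppGen.exists_root_close W (hf₀.map W.subtype) (hfd.symm ▸ hd) Θ
  have h1 : W.valuation (Θ - Θ') < 1 := by
    by_contra hh
    exact (lt_of_le_of_lt hclose hev).not_ge (one_le_pow₀ (not_lt.1 hh))
  obtain ⟨g, hg⟩ := (lifts_iff_coeff_lifts (f := algebraMap F Ω) f).2 fun i => by
    rw [coeff_map, EppGen.coeff_polyOf]
    split_ifs
    · exact ⟨⟨a i, haF i⟩, rfl⟩
    · exact ⟨1, rfl⟩
    · exact ⟨0, rfl⟩
  have hg' : g.map (algebraMap F Ω) = f := hg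
  have hgm : g.Monic := monic_of_injective (algebraMap F Ω).injective (hg'.symm ▸ hf₀.map _)
  have hg0 : aeval Θ' g = 0 := by rw [aeval_def, ← eval_map, hg']; exact hroot
  refine ⟨Θ', EppGen.mem_of_root W hf₀ (by rw [← eval_map]; exact hroot), h1, ⟨g, hgm, hg0⟩, ?_⟩
  refine (natDegree_le_of_dvd (minpoly.dvd F Θ' hg0) hgm.ne_zero).trans (le_of_eq ?_)
  rw [← natDegree_map (algebraMap F Ω) (p := g), hg', hfd]

set_option maxHeartbeats 1000000 in
/-- Transfer an approximation by algebraic constants to a finite level. -/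
theorem exists_finite_level [IsAlgClosed Ω] (hrk : RankOne W)
    {π : K} (hπ0 : π ≠ 0) (hπ1 : W.valuation (algebraMap K Ω π) < 1)
    (E Lf : IntermediateField K Ω) (hE : E ≤ _root_.algebraicClosure K Ω) (hL : Lf.FG) {n : ℕ} (U : Fin n → Ω) {h : Polynomial Ω}
    {Θ : Ω} (hU : ∀ i, U i ∈ W) (hind : AlgebraicIndependent (resField W E.toSubfield) fun i => res W (U i))
    (halgU : ∀ x ∈ Lf, IsAlgebraic (adjoin E (Set.range U)) x)
    (hh : h.Monic) (hhW : ∀ i, h.coeff i ∈ W) (hhU : ∀ i, h.coeff i ∈ adjoin E (Set.range U))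
    (hΘ : Θ ∈ W) (hΘ0 : h.eval Θ = 0) (hΘder : W.valuation (h.derivative.eval Θ) = 1)
    (hnear : ∀ x ∈ Lf, Near W (adjoin E (Set.range U ∪ {Θ})).toSubfield x) :
    ∃ E₁ : IntermediateField K Ω, FiniteDimensional K E₁ ∧
      Good (W.comap (Lf ⊔ E₁).val.toRingHom) (IntermediateField.inclusion (le_sup_right : E₁ ≤ Lf ⊔ E₁)).toRingHom := by
  classical
  set Kc := _root_.algebraicClosure K Ω with hKc
  haveI : IsAlgClosed Kc := IsAlgClosure.isAlgClosed K
  -- generators
  obtain ⟨gen, hgen⟩ := hL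
  have halgKc : ∀ x ∈ Lf, IsAlgebraic (adjoin Kc (Set.range U)) x := fun x hx => by
    have h' : IsAlgebraic ((adjoin E (Set.range U)).restrictScalars K) x := halgU x hx
    have hle : (adjoin E (Set.range U)).restrictScalars K ≤ (adjoin Kc (Set.range U)).restrictScalars K := by
      rw [IntermediateField.restrictScalars_adjoin_eq_sup, IntermediateField.restrictScalars_adjoin_eq_sup]
      exact sup_le_sup_right hE _
    exact isAlgebraic_of_le hle h'
  obtain ⟨q, S, hq, hSU, hSsep⟩ := exists_roots_separable Kc U gen fun x hx =>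
    halgKc x (hgen ▸ subset_adjoin K _ hx)
  have hSW : ∀ i, S i ∈ W := fun i => mem_of_pow_mem W hq (by rw [hSU]; exact hU i)
  let Fc := adjoin Kc (Set.range S)
  -- scaled generators, integral in each step
  have hgenint : ∀ x ∈ gen, ∃ a : K, a ≠ 0 ∧
      ∀ i, ((minpoly Fc (algebraMap K Ω a * x)).map (algebraMap Fc Ω)).coeff i ∈ W := fun x hx => by
    let Fc' : IntermediateField K Ω := Fc.restrictScalars K
    exact exists_scale W hrk hπ0 hπ1 Fc' (hSsep x hx).isIntegral
  choose! a ha0 haW using hgenint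
  let gen' : Finset Ω := gen.image fun x => algebraMap K Ω (a x) * x
  have hg'sep : ∀ y ∈ gen', IsSeparable Fc y ∧ y ∈ Lf ∧
      ∀ i, ((minpoly Fc y).map (algebraMap Fc Ω)).coeff i ∈ W := by
    intro y hy
    obtain ⟨x, hx, rfl⟩ := Finset.mem_image.1 hy
    refine ⟨?_, mul_mem (Lf.algebraMap_mem _) (hgen ▸ subset_adjoin K _ hx), haW x hx⟩
    refine Field.isSeparable_mul ?_ (hSsep x hx)
    rw [show algebraMap K Ω (a x) = algebraMap Fc Ω (algebraMap Kc Fc (algebraMap K Kc (a x))) from rfl]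
    exact isSeparable_algebraMap _
  have hLf' : Lf = adjoin K (gen' : Set Ω) := by
    rw [← hgen]
    refine le_antisymm (adjoin_le_iff.2 fun x hx => ?_) (adjoin_le_iff.2 fun y hy => ?_)
    · have hax : algebraMap K Ω (a x) * x ∈ adjoin K (gen' : Set Ω) :=
        subset_adjoin K _ (Finset.mem_coe.2 (Finset.mem_image.2 ⟨x, hx, rfl⟩))
      have hne : algebraMap K Ω (a x) ≠ 0 := (_root_.map_ne_zero _).2 (ha0 x hx)
      have := div_mem hax ((adjoin K (gen' : Set Ω)).algebraMap_mem (a x))
      rwa [mul_div_cancel_left₀ _ hne] at this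
    · obtain ⟨x, hx, rfl⟩ := Finset.mem_image.1 (Finset.mem_coe.1 hy)
      exact mul_mem (IntermediateField.algebraMap_mem _ _) (subset_adjoin K _ (Finset.mem_coe.2 hx))
  -- integral equations and close elements
  let f : Ω → Polynomial Ω := fun y => (minpoly Fc y).map (algebraMap Fc Ω)
  have hfder : ∀ y ∈ gen', (f y).derivative.eval y ≠ 0 := fun y hy => by
    rw [derivative_map, eval_map, ← aeval_def]
    exact (hg'sep y hy).1.aeval_derivative_ne_zero (minpoly.aeval _ _)
  have hfroot : ∀ y ∈ gen', (f y).eval y = 0 := fun y _ => by rw [eval_map, ← aeval_def, minpoly.aeval]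
  have hfmonic : ∀ y ∈ gen', (f y).Monic := fun y hy => (minpoly.monic (hg'sep y hy).1.isIntegral).map _
  have hgen'W : ∀ y ∈ gen', y ∈ W := fun y hy => by
    let f₁ : Polynomial W := ∑ i ∈ (f y).support, monomial i ⟨(f y).coeff i, (hg'sep y hy).2.2 i⟩
    have hf₁ : f₁.map W.subtype = f y := by
      rw [Polynomial.map_sum]
      conv_rhs => rw [(f y).as_sum_support]
      exact Finset.sum_congr rfl fun i _ => by rw [Polynomial.map_monomial]; rfl
    exact EppGen.mem_of_root W (monic_of_injective W.subtype_injective (hf₁.symm ▸ hfmonic y hy))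
      (by rw [← eval_map, hf₁]; exact hfroot y hy)
  set X : Set Ω := Set.range S ∪ {Θ}
  have hG₀ : (adjoin E (Set.range U ∪ {Θ})).restrictScalars K ≤ adjoin K ((Kc : Set Ω) ∪ X) := by
    rw [IntermediateField.restrictScalars_adjoin_eq_sup]
    refine sup_le (fun x hx => subset_adjoin K _ (Or.inl (hE hx))) (adjoin_le_iff.2 ?_)
    rintro y (⟨i, rfl⟩ | hy)
    · rw [← hSU i]; exact pow_mem (subset_adjoin K ((Kc : Set Ω) ∪ X) (Or.inr (Or.inl ⟨i, rfl⟩))) _
    · exact subset_adjoin K _ (Or.inr (Or.inr hy))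
  have hclose : ∀ y ∈ gen', ∃ β ∈ adjoin K ((Kc : Set Ω) ∪ X),
      W.valuation (y - β) < W.valuation ((f y).derivative.eval y) := by
    intro y hy
    obtain ⟨g, hg, hgc⟩ := (near_iff W).1 (hnear y (hg'sep y hy).2.1) ((f y).derivative.eval y * algebraMap K Ω π)
      (mul_ne_zero (hfder y hy) ((_root_.map_ne_zero _).2 hπ0))
    refine ⟨g, hG₀ hg, lt_of_le_of_lt hgc ?_⟩
    rw [map_mul]
    exact mul_lt_of_lt_one_right (zero_lt_iff.2 ((Valuation.ne_zero_iff _).2 (hfder y hy))) hπ1
  choose! β hβ hβc using hclose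
  -- the finitely many constants
  have hcoeffK : ∀ y ∈ gen', ∀ i, (f y).coeff i ∈ adjoin K ((Kc : Set Ω) ∪ Set.range S) := fun y _ i => by
    rw [coeff_map]
    have hle : Fc.restrictScalars K ≤ adjoin K ((Kc : Set Ω) ∪ Set.range S) := by
      rw [IntermediateField.restrictScalars_adjoin_eq_sup]
      exact sup_le (fun x hx => subset_adjoin K _ (Or.inl hx)) (IntermediateField.adjoin.mono K _ _ Set.subset_union_right)
    exact hle ((minpoly Fc y).coeff i).2
  have hhK : ∀ i, h.coeff i ∈ adjoin K ((Kc : Set Ω) ∪ Set.range S) := fun i => by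
    have hle : (adjoin E (Set.range U)).restrictScalars K ≤ adjoin K ((Kc : Set Ω) ∪ Set.range S) := by
      rw [IntermediateField.restrictScalars_adjoin_eq_sup]
      refine sup_le (fun x hx => subset_adjoin K _ (Or.inl (hE hx))) (adjoin_le_iff.2 ?_)
      rintro _ ⟨j, rfl⟩
      rw [← hSU j]; exact pow_mem (subset_adjoin K ((Kc : Set Ω) ∪ Set.range S) (Or.inr ⟨j, rfl⟩)) _
    exact hle (hhU i)
  choose Cf hCf hCfm using fun (y : gen') (i : ℕ) => exists_finset_constants (K := K) _ _ (hcoeffK y y.2 i)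
  choose Cβ hCβ hCβm using fun y : gen' => exists_finset_constants (K := K) _ _ (hβ y y.2)
  choose Ch hCh hChm using fun i => exists_finset_constants (K := K) _ _ (hhK i)
  let C : Finset Ω := gen'.attach.biUnion (fun y => (f y).support.biUnion (Cf y) ∪ Cβ y) ∪ h.support.biUnion Ch
  have hC : ∀ x ∈ (C : Set Ω), x ∈ Kc := by
    intro x hx
    simp only [C, Finset.coe_union, Finset.coe_biUnion, Set.mem_union, Set.mem_iUnion] at hx
    rcases hx with ⟨y, -, ⟨i, -, hi⟩ | hy⟩ | ⟨i, -, hi⟩
    · exact hCf y i hi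
    · exact hCβ y hy
    · exact hCh i hi
  let E₁ : IntermediateField K Ω := adjoin K (C : Set Ω)
  have hE₁c : E₁ ≤ Kc := adjoin_le_iff.2 hC
  haveI : FiniteDimensional K E₁ :=
    IntermediateField.finiteDimensional_adjoin fun x hx => (mem_algebraicClosure_iff.1 (hC x hx)).isIntegral
  let F : IntermediateField K Ω := (adjoin E₁ (Set.range S)).restrictScalars K
  have hCS : adjoin K ((C : Set Ω) ∪ Set.range S) ≤ F := adjoin_le_iff.2 (Set.union_subset
    (fun x hx => IntermediateField.algebraMap_mem (adjoin E₁ (Set.range S)) (⟨x, subset_adjoin K _ hx⟩ : E₁))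
    (subset_adjoin E₁ (Set.range S)))
  have hfF : ∀ y ∈ gen', ∀ i, (f y).coeff i ∈ F := fun y hy i => by
    by_cases hi : (f y).coeff i = 0
    · rw [hi]; exact zero_mem _
    refine hCS (IntermediateField.adjoin.mono K _ _ (Set.union_subset_union_left _ ?_) (hCfm ⟨y, hy⟩ i))
    intro x hx
    exact Finset.mem_union_left _ (Finset.mem_biUnion.2 ⟨⟨y, hy⟩, Finset.mem_attach _ _,
      Finset.mem_union_left _ (Finset.mem_biUnion.2 ⟨i, mem_support_iff.2 hi, hx⟩)⟩)
  have hhF : ∀ i, h.coeff i ∈ F := fun i => by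
    by_cases hi : h.coeff i = 0
    · rw [hi]; exact zero_mem _
    refine hCS (IntermediateField.adjoin.mono K _ _ (Set.union_subset_union_left _ ?_) (hChm i))
    intro x hx
    exact Finset.mem_union_right _ (Finset.mem_biUnion.2 ⟨i, mem_support_iff.2 hi, hx⟩)
  -- residual independence
  set k₁ := resField W E₁.toSubfield
  have hindKc : AlgebraicIndependent (resField W Kc.toSubfield) fun i => res W (S i) := by
    refine indep_of_pow (fun i => res W (U i)) (fun i => res W (S i)) ?_ fun i => ⟨q, by rw [← res_pow W (hSW i), hSU]⟩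
    refine indep_res_of_isAlgebraic W (show E.toSubfield ≤ Kc.toSubfield from hE) (fun x hx => ?_) hind
    have h' : IsAlgebraic E x := (mem_algebraicClosure_iff.1 hx).extendScalars (algebraMap K E).injective
    exact h'
  have hindS : AlgebraicIndependent k₁ fun i => res W (S i) :=
    indep_res_of_le W (show E₁.toSubfield ≤ Kc.toSubfield from hE₁c) hindKc
  -- the root above the finite level
  set kF := resField W F.toSubfield
  have hhres : ∃ g : Polynomial kF, g.Monic ∧ aeval (res W Θ) g = 0 ∧ aeval (res W Θ) (derivative g) ≠ 0 := by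
    let h₀ : Polynomial W := ∑ i ∈ h.support, monomial i ⟨h.coeff i, hhW i⟩
    have hh₀ : h₀.map W.subtype = h := by
      rw [Polynomial.map_sum]
      conv_rhs => rw [h.as_sum_support]
      exact Finset.sum_congr rfl fun i _ => by rw [Polynomial.map_monomial]; rfl
    have hh₀m : h₀.Monic := monic_of_injective W.subtype_injective (hh₀.symm ▸ hh)
    obtain ⟨g, hg⟩ := (lifts_iff_coeff_lifts (f := algebraMap kF (ResidueField W)) (h₀.map (residue W))).2 fun i =>
      ⟨⟨residue W (h₀.coeff i), by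
        rw [← res_coe]
        refine res_mem_resField W ?_
        have e : ((h₀.coeff i : W) : Ω) = h.coeff i := by rw [← hh₀, coeff_map]; rfl
        rw [e]; exact hhF i⟩, (coeff_map (p := h₀) (residue W) i).symm⟩
    have hg' : g.map (algebraMap kF (ResidueField W)) = h₀.map (residue W) := hg
    have hev : ∀ r : Polynomial W, (r.map (residue W)).eval (res W Θ) = res W ((r.map W.subtype).eval Θ) := fun r => by
      rw [eval_map, eval_map, show eval₂ W.subtype Θ r = ((r.eval ⟨Θ, hΘ⟩ : W) : Ω) from eval₂_at_apply W.subtype ⟨Θ, hΘ⟩,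
        res_coe, res_eq W hΘ, eval₂_at_apply]
    refine ⟨g, monic_of_injective (algebraMap kF (ResidueField W)).injective (hg'.symm ▸ hh₀m.map _), ?_, ?_⟩
    · rw [aeval_def, ← eval_map, hg', hev, hh₀, hΘ0, res_zero]
    · rw [aeval_def, ← eval_map, ← derivative_map, hg', derivative_map, hev, ← derivative_map, hh₀]
      exact res_ne_zero W hΘder
  obtain ⟨g, hgm, hg0, hgder⟩ := hhres
  have hθint : IsIntegral kF (res W Θ) := ⟨g, hgm, hg0⟩
  have hθsep : IsSeparable kF (res W Θ) := by
    rw [IsSeparable, separable_iff_derivative_ne_zero (minpoly.irreducible hθint)]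
    intro h0
    obtain ⟨g₁, hg₁⟩ := minpoly.dvd kF (res W Θ) hg0
    apply hgder
    rw [hg₁, derivative_mul, h0, zero_mul, zero_add, map_mul, minpoly.aeval, zero_mul]
  obtain ⟨Θ', hΘ'W, hΘ'1, hΘ'int, hΘ'deg⟩ := exists_root_lift W F hΘ hθint
  have hΘ'res : res W Θ' = res W Θ := by
    refine (sub_eq_zero.1 ?_).symm
    rw [← res_sub W hΘ hΘ'W, res_eq_zero_iff W (sub_mem hΘ hΘ'W)]; exact hΘ'1
  obtain ⟨hvalG, hresG⟩ := simple W F hΘ'W hΘ'int (by rw [hΘ'res]; exact hΘ'deg)
  set G := (adjoin F ({Θ'} : Set Ω)).toSubfield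
  have hFG : F.toSubfield ≤ G := fun x hx => IntermediateField.algebraMap_mem _ (⟨x, hx⟩ : F)
  have hτ : ∃ τ : Ω, τ ≠ 0 ∧ W.valuation τ < 1 := ⟨_, (_root_.map_ne_zero _).2 hπ0, hπ1⟩
  have hΘnear : Near W G Θ := near_of_close W hrk G hh hhW (fun i => hFG (hhF i)) hΘ0
    (mem_adjoin_simple_self F Θ') hΘ (by rw [hΘder]; exact hΘ'1)
  have hCX : ∀ x ∈ (adjoin K ((C : Set Ω) ∪ X)).toSubfield, Near W G x := by
    refine le_near W hτ (S := Set.range (algebraMap K Ω) ∪ ((C : Set Ω) ∪ X)) (adjoin_toSubfield K _).le ?_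
    rintro x (⟨c, rfl⟩ | hx | ⟨i, rfl⟩ | hx)
    · exact near_of_mem W (hFG (F.algebraMap_mem c))
    · exact near_of_mem W (hFG (hCS (subset_adjoin K _ (Or.inl hx))))
    · exact near_of_mem W (hFG (hCS (subset_adjoin K _ (Or.inr ⟨i, rfl⟩))))
    · rw [Set.mem_singleton_iff.1 hx]; exact hΘnear
  have hgennear : ∀ y ∈ gen', Near W G y := by
    intro y hy
    have hd0 := hfder y hy
    have hβm : β y ∈ adjoin K ((C : Set Ω) ∪ X) :=
      IntermediateField.adjoin.mono K _ _ (Set.union_subset_union_left _ fun x hx =>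
        Finset.mem_union_left _ (Finset.mem_biUnion.2 ⟨⟨y, hy⟩, Finset.mem_attach _ _, Finset.mem_union_right _ hx⟩))
        (hCβm ⟨y, hy⟩)
    obtain ⟨g', hg', hg'c⟩ := (near_iff W).1 (hCX _ hβm) ((f y).derivative.eval y * algebraMap K Ω π)
      (mul_ne_zero hd0 ((_root_.map_ne_zero _).2 hπ0))
    refine near_of_close W hrk G (hfmonic y hy) (hg'sep y hy).2.2 (fun i => hFG (hfF y hy i)) (hfroot y hy) hg'
      (hgen'W y hy) ?_
    rw [show y - g' = (y - β y) + (β y - g') by ring]
    refine W.valuation.map_add_lt (hβc y hy) (lt_of_le_of_lt hg'c ?_)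
    rw [map_mul]
    exact mul_lt_of_lt_one_right (zero_lt_iff.2 ((Valuation.ne_zero_iff _).2 hd0)) hπ1
  set N := Lf ⊔ E₁
  have hE₁F : E₁ ≤ F := fun x hx => IntermediateField.algebraMap_mem (adjoin E₁ (Set.range S)) (⟨x, hx⟩ : E₁)
  have hN : ∀ x ∈ N.toSubfield, Near W G x := by
    have hNeq : N = adjoin K ((gen' : Set Ω) ∪ (C : Set Ω)) := by rw [IntermediateField.adjoin_union, ← hLf']
    refine le_near W hτ (S := Set.range (algebraMap K Ω) ∪ ((gen' : Set Ω) ∪ (C : Set Ω)))
      (by rw [hNeq, adjoin_toSubfield]) ?_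
    rintro x (⟨c, rfl⟩ | hx | hx)
    · exact near_of_mem W (hFG (F.algebraMap_mem c))
    · exact hgennear x hx
    · exact near_of_mem W (hFG (hCS (subset_adjoin K _ (Or.inl hx))))
  obtain ⟨hvalF, hresF⟩ := gauss W E₁ S hSW hindS
  have hval : ValEq W E₁.toSubfield N.toSubfield := (hvalF.trans W hvalG).trans W (valEq_of_near W hτ hN)
  refine ⟨E₁, inferInstance, ?_, ?_⟩
  · -- the values
    set V := W.comap N.val.toRingHom
    set f' := (IntermediateField.inclusion (le_sup_right : E₁ ≤ N)).toRingHom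
    letI : Algebra (V.comap f') V := (EtRam.inclOfComap V f').toAlgebra
    refine le_antisymm (Ideal.map_le_iff_le_comap.2 fun a ha => ?_) fun x hx => ?_
    · exact map_nonunit (EtRam.inclOfComap V f') a ha
    · have hx1 : W.valuation ((x : N) : Ω) < 1 :=
        (valuation_lt_one_comap W N.val.toRingHom).1 ((ValuationSubring.valuation_lt_one_iff _ x).1 hx)
      by_cases hx0 : ((x : N) : Ω) = 0
      · rw [show x = 0 from Subtype.ext (Subtype.ext hx0)]; exact zero_mem _
      obtain ⟨c, hc, hcv⟩ := hval _ (x : N).2 hx0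
      let c' : V.comap f' := ⟨⟨c, hc⟩, (W.valuation_le_one_iff c).1 (hcv ▸ hx1.le)⟩
      have hc' : c' ∈ maximalIdeal (V.comap f') :=
        (ValuationSubring.valuation_lt_one_iff _ c').2 ((valuation_lt_one_comap V f').2
          ((valuation_lt_one_comap W N.val.toRingHom).2 (show W.valuation c < 1 from hcv ▸ hx1)))
      have hc0 : c ≠ 0 := fun h => hx0 ((Valuation.zero_iff W.valuation).1 (by rw [hcv, h, map_zero]))
      have hq' : ((x : N) : Ω) / c ∈ W := (W.valuation_le_one_iff _).1 (by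
        rw [map_div₀, hcv, div_self ((Valuation.ne_zero_iff _).2 hc0)])
      have hxc : x = algebraMap (V.comap f') V c' *
          ⟨⟨((x : N) : Ω) / c, div_mem (x : N).2 ((le_sup_right : E₁ ≤ N) hc)⟩, hq'⟩ :=
        Subtype.ext (Subtype.ext (show ((x : N) : Ω) = c * (((x : N) : Ω) / c) by field_simp))
      rw [hxc]
      exact Ideal.mul_mem_right _ _ (Ideal.mem_map_of_mem _ hc')
  · -- the residues
    refine isGeometricallyReduced_residue W E₁ N le_sup_right (fun i => res W (S i)) hindS (res W Θ)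
      (isSeparable_of_subfield_le (show kF ≤ (IntermediateField.adjoin k₁ (Set.range fun i => res W (S i))).toSubfield
        from hresF) hθsep) ?_
    refine ((resField_le_of_near W hτ hN).trans (hresG.trans ?_))
    rw [hΘ'res, adjoin_toSubfield, Subfield.closure_le, Set.union_subset_iff]
    refine ⟨?_, fun z hz => Subfield.subset_closure (Or.inr (Or.inr hz))⟩
    rintro _ ⟨z, rfl⟩
    have hz : (z : ResidueField W) ∈ (IntermediateField.adjoin k₁ (Set.range fun i => res W (S i))).toSubfield := hresF z.2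
    rw [adjoin_toSubfield] at hz
    refine Subfield.closure_mono ?_ hz
    rintro y (⟨w, rfl⟩ | hy)
    · exact Or.inl w.2
    · exact Or.inr (Or.inl hy)

end Groth.Agent.EtRam7.Sol
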