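import Groth.Agent.EtRam7.EppGen.Residue
import Mathlib

/-! Infinite `p`-th powers in finitely generated extensions of perfect fields are algebraic. -/

set_option autoImplicit false
set_option linter.style.haveILetI false
set_option linter.unusedSectionVars false
universe u

namespace Groth.Agent.EtRam7.Sol

open IntermediateField EppGen

theorem degree_eq_of_forall {σ : Type*} {d e : σ →₀ ℕ} (p : ℕ) (hp : 1 < p)
    (h : ∀ n : ℕ, ∃ a b : σ →₀ ℕ, d + p ^ n • b = e + p ^ n • a) : d = e := by
  ext i
  obtain ⟨a, b, hab⟩ := h (d i + e i)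
  have h1 : d i + p ^ (d i + e i) * b i = e i + p ^ (d i + e i) * a i := by
    have := congrArg (fun f : σ →₀ ℕ => f i) hab
    simpa using this
  have hlt : d i + e i < p ^ (d i + e i) := Nat.lt_pow_self hp
  rcases le_total (a i) (b i) with hle | hle
  · obtain ⟨c, hc⟩ := Nat.exists_eq_add_of_le hle
    rw [hc, mul_add] at h1
    rcases Nat.eq_zero_or_pos c with h0 | h0
    · subst h0; omega
    · have := Nat.le_mul_of_pos_right (p ^ (d i + e i)) h0; omega
  · obtain ⟨c, hc⟩ := Nat.exists_eq_add_of_le hle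
    rw [hc, mul_add] at h1
    rcases Nat.eq_zero_or_pos c with h0 | h0
    · subst h0; omega
    · have := Nat.le_mul_of_pos_right (p ^ (d i + e i)) h0; omega

/-- In a purely transcendental extension of a perfect field only constants are `p ^ n`-th powers for all `n`. -/
theorem mem_range_of_mem_pInfty {k F : Type u} [Field k] [Field F] [Algebra k F] (p : ℕ) [Fact p.Prime]
    [CharP k p] [CharP F p] [PerfectRing k p] {r : ℕ} (u : Fin r → F) (hu : AlgebraicIndependent k u)
    (hgen : adjoin k (Set.range u) = ⊤) {x : F} (hx : x ∈ pInfty F p) : x ∈ Set.range (algebraMap k F) := by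
  classical
  let mo : MonomialOrder (Fin r) := MonomialOrder.lex
  have hinj : Function.Injective (MvPolynomial.aeval (R := k) u) := hu
  have hfrac : ∀ y : F, ∃ P Q : MvPolynomial (Fin r) k, Q ≠ 0 ∧ y * MvPolynomial.aeval u Q = MvPolynomial.aeval u P := by
    intro y
    have hy : y ∈ adjoin k (Set.range u) := hgen ▸ IntermediateField.mem_top
    obtain ⟨P, Q, rfl⟩ := (mem_adjoin_range_iff k u y).1 hy
    by_cases hQ : MvPolynomial.aeval u Q = 0
    · exact ⟨0, 1, one_ne_zero, by rw [hQ, div_zero, zero_mul, map_zero]⟩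
    · exact ⟨P, Q, fun h => hQ (by rw [h, map_zero]), div_mul_cancel₀ _ hQ⟩
  have key : ∀ (y : F) (P Q : MvPolynomial (Fin r) k), y ∈ pInfty F p → P ≠ 0 → Q ≠ 0 →
      y * MvPolynomial.aeval u Q = MvPolynomial.aeval u P → mo.degree P = mo.degree Q := by
    intro y P Q hy hP hQ hPQ
    refine degree_eq_of_forall p (Fact.out : p.Prime).one_lt fun n => ?_
    obtain ⟨z, hz⟩ := mem_pInfty.1 hy n
    obtain ⟨A, B, hB, hAB⟩ := hfrac z
    have h1 : P * B ^ p ^ n = Q * A ^ p ^ n := hinj (by
      rw [map_mul, map_mul, map_pow, map_pow, ← hPQ, ← hAB, mul_pow, hz]; ring)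
    have hA : A ≠ 0 := fun h => mul_ne_zero hP (pow_ne_zero (p ^ n) hB) (by
      rw [h1, h, zero_pow (pow_ne_zero n (Fact.out : p.Prime).ne_zero), mul_zero])
    have h2 := congrArg mo.degree h1
    rw [MonomialOrder.degree_mul hP (pow_ne_zero _ hB), MonomialOrder.degree_mul hQ (pow_ne_zero _ hA),
      MonomialOrder.degree_pow, MonomialOrder.degree_pow] at h2
    exact ⟨mo.degree A, mo.degree B, h2⟩
  obtain ⟨P, Q, hQ, hPQ⟩ := hfrac x
  by_cases hP : P = 0
  · refine ⟨0, ?_⟩
    rw [hP, map_zero, mul_eq_zero] at hPQ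
    rw [map_zero]
    exact (hPQ.resolve_right fun h => hQ (hinj (h.trans (map_zero _).symm))).symm
  have hd := key x P Q hx hP hQ hPQ
  set c : k := P.coeff (mo.degree P) / Q.coeff (mo.degree Q)
  refine ⟨c, ?_⟩
  by_contra hne
  have hc : algebraMap k F c ∈ pInfty F p := mem_pInfty.2 fun n => by
    refine ⟨algebraMap k F ((iterateFrobeniusEquiv k p n).symm c), ?_⟩
    rw [← map_pow]
    congr 1
    rw [← iterateFrobeniusEquiv_def (p := p), RingEquiv.apply_symm_apply]
  set P' := P - MvPolynomial.C c * Q with hP'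
  have hxc : (x - algebraMap k F c) * MvPolynomial.aeval u Q = MvPolynomial.aeval u P' := by
    rw [map_sub, map_mul, MvPolynomial.aeval_C, sub_mul, hPQ]
  have hP'0 : P' ≠ 0 := fun h => by
    rw [h, map_zero, mul_eq_zero, sub_eq_zero] at hxc
    exact hne (hxc.resolve_right fun h => hQ (hinj (h.trans (map_zero _).symm))).symm
  have hd' := key _ P' Q (sub_mem hx hc) hP'0 hQ hxc
  apply mo.coeff_degree_ne_zero_iff.2 hP'0
  rw [hd', hP', MvPolynomial.coeff_sub, MvPolynomial.coeff_C_mul, ← hd]
  show P.coeff _ - P.coeff (mo.degree P) / Q.coeff (mo.degree Q) * Q.coeff (mo.degree P) = 0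
  rw [hd, div_mul_cancel₀ _ (mo.coeff_degree_ne_zero_iff.2 hQ), sub_self]

/-- Infinite `p`-th powers in a finitely generated extension of a perfect field are separable over it. -/
theorem isSeparable_of_mem_pInfty_perfect {k l : Type u} [Field k] [Field l] [Algebra k l] (p : ℕ) [Fact p.Prime]
    [CharP k p] [CharP l p] [PerfectField k] [Algebra.EssFiniteType k l] {x : l} (hx : x ∈ pInfty l p) :
    IsSeparable k x := by
  classical
  haveI : PerfectRing k p := PerfectField.toPerfectRing p
  obtain ⟨s, hs, hsep⟩ := exists_isTranscendenceBasis_and_isSeparable_of_perfectField k l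
  let F := adjoin k (s : Set l)
  haveI : Algebra.IsSeparable F l := hsep
  haveI : CharP F p := (RingHom.charP_iff (algebraMap F l) (algebraMap F l).injective p).2 inferInstance
  refine isSeparable_of_mem_pInfty (k := k) (l := F) (fun y hy => ?_) hx
  let e := s.equivFin
  let u : Fin s.card → F := fun i => ⟨(e.symm i : l), subset_adjoin k _ (e.symm i).2⟩
  have hu : AlgebraicIndependent k u :=
    AlgebraicIndependent.of_comp F.val ((algebraicIndependent_equiv e.symm).2 hs.1)
  have hgen : adjoin k (Set.range u) = ⊤ := by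
    apply IntermediateField.map_injective F.val
    rw [adjoin_map, ← AlgHom.fieldRange_eq_map, fieldRange_val, ← Set.range_comp]
    refine le_antisymm (adjoin_le_iff.2 ?_) (adjoin.mono k _ _ fun z hz => ?_)
    · rintro _ ⟨i, rfl⟩; exact (u i).2
    · exact ⟨e ⟨z, hz⟩, by simp [u]⟩
  obtain ⟨c, rfl⟩ := mem_range_of_mem_pInfty p u hu hgen (mem_pInfty.2 hy)
  exact isSeparable_algebraMap c

end Groth.Agent.EtRam7.Sol
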