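import Groth.Agent.EtRam7.Sol.PerfectRes
import Groth.Agent.EtRam7.Sol.RatPow
import Groth.Agent.EtRam7.Sol.Finite
import Groth.Agent.EtRam7.Sol.Counting
import Groth.Agent.EtRam7.EppGen.Solution
import Mathlib

/-! A weak solution over an algebraic extension with perfect residue field. -/

set_option autoImplicit false
set_option linter.style.haveILetI false
set_option linter.unusedSectionVars false
universe u

namespace Groth.Agent.EtRam7.Sol

open IsLocalRing Polynomial IntermediateField

variable {Ω : Type u} [Field Ω] (W : ValuationSubring Ω)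

theorem perfectField_residue (E : Subfield Ω) (p : ℕ) [Fact p.Prime] [CharP (ResidueField W) p]
    (h : ∀ z ∈ resField W E, ∃ y ∈ resField W E, y ^ p = z) : PerfectField (ResidueField (W.comap E.subtype)) := by
  let j : ResidueField (W.comap E.subtype) →+* ResidueField W := ResidueField.map (EtRam.inclOfComap W E.subtype)
  haveI : CharP (ResidueField (W.comap E.subtype)) p := (RingHom.charP_iff j j.injective p).2 inferInstance
  haveI : ExpChar (ResidueField (W.comap E.subtype)) p := ExpChar.prime Fact.out
  haveI : PerfectRing (ResidueField (W.comap E.subtype)) p := PerfectRing.ofSurjective _ p fun x => by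
    obtain ⟨_, ⟨w, rfl⟩, hw⟩ := h (j x) ⟨x, rfl⟩
    exact ⟨w, j.injective ((map_pow j w p).trans hw)⟩
  exact PerfectRing.toPerfectField _ p

theorem perfectField_resField (E : Subfield Ω) (p : ℕ) [Fact p.Prime] [CharP (ResidueField W) p]
    (h : ∀ z ∈ resField W E, ∃ y ∈ resField W E, y ^ p = z) : PerfectField (resField W E) := by
  haveI : CharP (resField W E) p := (RingHom.charP_iff (resField W E).subtype Subtype.val_injective p).2 inferInstance
  haveI : ExpChar (resField W E) p := ExpChar.prime Fact.out
  haveI : PerfectRing (resField W E) p := PerfectRing.ofSurjective _ p fun x => by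
    obtain ⟨y, hy, hyx⟩ := h x x.2
    exact ⟨⟨y, hy⟩, Subtype.ext hyx⟩
  exact PerfectRing.toPerfectField _ p

theorem essFiniteType_residue {E M : Subfield Ω} (hle : E ≤ M) {G : Set (ResidueField W)} (hG : G.Finite)
    (hGM : G ⊆ resField W M) (hgen : resField W M ≤ Subfield.closure ((resField W E : Set (ResidueField W)) ∪ G))
    [Algebra (ResidueField (W.comap E.subtype)) (ResidueField (W.comap M.subtype))]
    (hcomm : ∀ c, ResidueField.map (EtRam.inclOfComap W M.subtype) (algebraMap _ _ c) =
      ResidueField.map (EtRam.inclOfComap W E.subtype) c) :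
    Algebra.EssFiniteType (ResidueField (W.comap E.subtype)) (ResidueField (W.comap M.subtype)) := by
  classical
  let j : ResidueField (W.comap M.subtype) →+* ResidueField W := ResidueField.map (EtRam.inclOfComap W M.subtype)
  refine IntermediateField.fg_top_iff.1 ⟨(hG.preimage j.injective.injOn).toFinset, top_le_iff.1 fun y _ => ?_⟩
  rw [Set.Finite.coe_toFinset]
  have hsub : Subfield.closure ((resField W E : Set (ResidueField W)) ∪ G) ≤
      (IntermediateField.adjoin (ResidueField (W.comap E.subtype)) (j ⁻¹' G)).toSubfield.map j := by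
    rw [Subfield.closure_le, Set.union_subset_iff]
    refine ⟨?_, fun z hz => ?_⟩
    · rintro _ ⟨c, rfl⟩
      exact ⟨algebraMap _ _ c, IntermediateField.algebraMap_mem _ c, hcomm c⟩
    · obtain ⟨w, rfl⟩ := hGM hz
      exact ⟨w, IntermediateField.subset_adjoin _ _ hz, rfl⟩
  obtain ⟨w, hw, hwy⟩ := hsub (hgen (show j y ∈ resField W M from ⟨y, rfl⟩))
  exact j.injective hwy ▸ hw

variable {K : Type u} [Field K] [Algebra K Ω]

theorem isAlgebraic_of_le {E E' : IntermediateField K Ω} (hle : E ≤ E') {x : Ω} (hx : IsAlgebraic E x) :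
    IsAlgebraic E' x := by
  letI : Algebra E E' := (IntermediateField.inclusion hle).toRingHom.toAlgebra
  haveI : IsScalarTower E E' Ω := IsScalarTower.of_algebraMap_eq fun _ => rfl
  exact hx.extendScalars (algebraMap E E').injective

theorem isAlgebraic_of_algebraic_sup {E N : IntermediateField K Ω} (h : ∀ x ∈ N, IsAlgebraic E x) :
    ∀ x ∈ N ⊔ E, IsAlgebraic E x := fun x hx => by
  have hle : N ⊔ E ≤ (_root_.algebraicClosure E Ω).restrictScalars K := sup_le
    (fun y hy => mem_algebraicClosure_iff.2 (h y hy))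
    fun y hy => (_root_.algebraicClosure E Ω).algebraMap_mem ⟨y, hy⟩
  exact mem_algebraicClosure_iff.1 (hle hx)

theorem isAlgebraic_adjoin_base {Y : IntermediateField K Ω} {r : ℕ} (T : Fin r → Ω) {x : Ω}
    (hx : IsAlgebraic (adjoin K (Set.range T)) x) :
    IsAlgebraic ((adjoin Y (Set.range T)).restrictScalars K) x :=
  isAlgebraic_of_le (show adjoin K (Set.range T) ≤ (adjoin Y (Set.range T)).restrictScalars K from
    adjoin_le_iff.2 fun y hy => subset_adjoin Y (Set.range T) hy) hx

set_option maxHeartbeats 1000000 in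
/-- An algebraic extension `E` with perfect residue field, weakly solving the ramification of `L E`. -/
theorem exists_weak_level [IsAlgClosed Ω] (p : ℕ) [Fact p.Prime] [CharP (ResidueField W) p]
    (hK : IsDiscreteValuationRing (W.comap (⊥ : IntermediateField K Ω).toSubfield.subtype))
    {Lf : IntermediateField K Ω} (hL : Lf.FG) {r : ℕ} (T : Fin r → Ω) (hT : ∀ i, T i ∈ W) (hTL : ∀ i, T i ∈ Lf)
    (hind : AlgebraicIndependent (resField W (⊥ : IntermediateField K Ω).toSubfield) fun i => res W (T i))
    (halg : ∀ x ∈ Lf, IsAlgebraic (adjoin K (Set.range T)) x) :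
    ∃ E : IntermediateField K Ω, E ≤ _root_.algebraicClosure K Ω ∧ PerfectField (resField W E.toSubfield) ∧
      AlgebraicIndependent (resField W E.toSubfield) (fun i => res W (T i)) ∧
      IsDiscreteValuationRing (W.comap E.toSubfield.subtype) ∧
      FiniteDimensional ((adjoin E (Set.range T)).restrictScalars K)
        (IntermediateField.extendScalars (le_sup_right : (adjoin E (Set.range T)).restrictScalars K ≤
          Lf ⊔ (adjoin E (Set.range T)).restrictScalars K)) ∧
      ∃ ϖ ∈ E, ϖ ≠ 0 ∧ W.valuation ϖ < 1 ∧ ∀ x ∈ Lf ⊔ E, W.valuation x < 1 → W.valuation x ≤ W.valuation ϖ := by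
  classical
  obtain ⟨Y, hYalg, hYval, hYperf⟩ := exists_perfect_residue (Ω := Ω) W (K := K) p
  have hYc : Y ≤ _root_.algebraicClosure K Ω := fun y hy =>
    mem_algebraicClosure_iff.2 (isAlgebraic_algebraMap_iff (A := Ω) (a := (⟨y, hy⟩ : Y)) Subtype.val_injective |>.2
      (hYalg.isAlgebraic _))
  haveI hYdvr := dvr_of_valEq W hK (bot_le : (⊥ : IntermediateField K Ω) ≤ Y) hYval
  have hbot : ∀ y ∈ _root_.algebraicClosure K Ω, IsAlgebraic (⊥ : IntermediateField K Ω).toSubfield y := fun y hy => by
    have h : IsAlgebraic (⊥ : IntermediateField K Ω) y := (mem_algebraicClosure_iff.1 hy).extendScalars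
      (algebraMap K (⊥ : IntermediateField K Ω)).injective
    exact h
  have hindY : AlgebraicIndependent (resField W Y.toSubfield) fun i => res W (T i) :=
    indep_res_of_isAlgebraic W (show (⊥ : IntermediateField K Ω).toSubfield ≤ Y.toSubfield from bot_le (α := IntermediateField K Ω))
      (fun y hy => hbot y (hYc hy)) hind
  let YT : IntermediateField K Ω := (adjoin Y (Set.range T)).restrictScalars K
  have hYYT : Y ≤ YT := fun y hy => IntermediateField.algebraMap_mem (adjoin Y (Set.range T)) (⟨y, hy⟩ : Y)
  haveI hYTdvr : IsDiscreteValuationRing (W.comap YT.toSubfield.subtype) :=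
    dvr_of_valEq W hYdvr hYYT (gauss W Y T hT hindY).1
  let L₁ : IntermediateField K Ω := Lf ⊔ YT
  have halgL₁ : ∀ x ∈ Lf, IsAlgebraic YT x := fun x hx => isAlgebraic_adjoin_base T (halg x hx)
  haveI := finite_sup hL halgL₁
  obtain ⟨hL₁dvr, S, hS⟩ := dvr_of_finite_intermediate W (le_sup_right : YT ≤ L₁)
  haveI := hL₁dvr
  have hYL₁ : Y ≤ L₁ := hYYT.trans le_sup_right
  -- the weak solution
  letI algYL : Algebra Y.toSubfield L₁.toSubfield := (Subfield.inclusion hYL₁).toAlgebra
  let A := W.comap Y.toSubfield.subtype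
  let B := W.comap L₁.toSubfield.subtype
  let iAB : A →+* B :=
    { toFun := fun a => ⟨algebraMap Y.toSubfield L₁.toSubfield a, a.2⟩
      map_one' := rfl, map_mul' := fun _ _ => rfl, map_zero' := rfl, map_add' := fun _ _ => rfl }
  letI : Algebra A B := iAB.toAlgebra
  haveI : IsLocalHom (algebraMap A B) := ⟨fun a ha => by
    by_contra hn
    exact (ValuationSubring.valuation_lt_one_iff _ (algebraMap A B a)).2
      ((valuation_lt_one_comap W L₁.toSubfield.subtype).2
        (show W.valuation ((a : Y.toSubfield) : Ω) < 1 from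
          (valuation_lt_one_comap W Y.toSubfield.subtype).1 ((ValuationSubring.valuation_lt_one_iff _ a).1 hn))) ha⟩
  letI : Algebra A L₁.toSubfield := ((algebraMap Y.toSubfield L₁.toSubfield).comp (algebraMap A Y.toSubfield)).toAlgebra
  haveI : IsScalarTower A Y.toSubfield L₁.toSubfield := IsScalarTower.of_algebraMap_eq fun _ => rfl
  haveI : IsScalarTower A B L₁.toSubfield := IsScalarTower.of_algebraMap_eq fun _ => rfl
  have hinj : Function.Injective (algebraMap A B) := fun a b h =>
    Subtype.ext (Subtype.ext (congrArg (fun z : B => ((z : L₁.toSubfield) : Ω)) h))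
  haveI : CharP (ResidueField A) p := (RingHom.charP_iff (ResidueField.map (EtRam.inclOfComap W Y.toSubfield.subtype))
    (RingHom.injective _) p).2 inferInstance
  haveI : CharP (ResidueField B) p := (RingHom.charP_iff (ResidueField.map (EtRam.inclOfComap W L₁.toSubfield.subtype))
    (RingHom.injective _) p).2 inferInstance
  haveI : PerfectField (ResidueField A) := perfectField_residue W Y.toSubfield p hYperf
  haveI : Algebra.EssFiniteType (ResidueField A) (ResidueField B) :=
    essFiniteType_residue W (G := Set.range (fun i => res W (T i)) ∪ (S : Set (ResidueField W)))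
      hYL₁ ((Set.finite_range _).union S.finite_toSet)
      (Set.union_subset
        (by rintro _ ⟨i, rfl⟩; exact res_mem_resField W ((le_sup_left : Lf ≤ L₁) (hTL i)))
        fun z hz => hS ▸ Subfield.subset_closure (Or.inr hz))
      (by
        refine hS.le.trans (Subfield.closure_le.2 (Set.union_subset ?_ fun z hz => Subfield.subset_closure (Or.inr (Or.inr hz))))
        have hT' : resField W YT.toSubfield ≤ Subfield.closure ((resField W Y.toSubfield : Set (ResidueField W)) ∪
            (Set.range (fun i => res W (T i)) ∪ (S : Set (ResidueField W)))) := by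
          refine (gauss W Y T hT hindY).2.trans ?_
          rw [adjoin_toSubfield]
          exact Subfield.closure_mono (Set.union_subset_union (fun z ⟨w, hw⟩ => hw ▸ w.2) Set.subset_union_left)
        exact hT')
      fun c => by
        obtain ⟨a, rfl⟩ := residue_surjective c
        rfl
  obtain ⟨K₁, _, _, _, hws⟩ := EppGen.exists_weakSolution p (A := A) (B := B) (K := Y.toSubfield) (L := L₁.toSubfield) hinj
    fun x hx => isSeparable_of_mem_pInfty_perfect p (EppGen.mem_pInfty.2 hx)
  -- embed it
  let φ : K₁ →ₐ[Y.toSubfield] Ω := IsAlgClosed.lift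
  let E : IntermediateField K Ω := adjoin K ((Y : Set Ω) ∪ Set.range φ)
  have hYE : Y ≤ E := fun y hy => subset_adjoin K _ (Or.inl hy)
  have hφE : ∀ k, φ k ∈ E := fun k => subset_adjoin K _ (Or.inr ⟨k, rfl⟩)
  have hEφ : ∀ x ∈ E, x ∈ φ.fieldRange := fun x hx => by
    rw [← IntermediateField.mem_toSubfield, adjoin_toSubfield] at hx
    refine (Subfield.closure_le (t := φ.fieldRange.toSubfield)).2 (Set.union_subset ?_ (Set.union_subset ?_ ?_)) hx
    · rintro _ ⟨c, rfl⟩
      exact φ.fieldRange.algebraMap_mem ⟨_, Y.algebraMap_mem c⟩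
    · exact fun y hy => φ.fieldRange.algebraMap_mem ⟨y, hy⟩
    · rintro _ ⟨k, rfl⟩; exact ⟨k, rfl⟩
  have halgY : ∀ x ∈ E, IsAlgebraic Y.toSubfield x := fun x hx => by
    obtain ⟨k, rfl⟩ := hEφ x hx
    exact ((Algebra.IsIntegral.isIntegral (R := Y.toSubfield) k).map φ).isAlgebraic
  have hEc : E ≤ _root_.algebraicClosure K Ω := fun x hx => by
    haveI : Algebra.IsAlgebraic K Y := hYalg
    have h : IsAlgebraic Y x := halgY x hx
    exact mem_algebraicClosure_iff.2 (IsAlgebraic.restrictScalars K h)
  have hindE : AlgebraicIndependent (resField W E.toSubfield) fun i => res W (T i) :=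
    indep_res_of_isAlgebraic W (show (⊥ : IntermediateField K Ω).toSubfield ≤ E.toSubfield from bot_le (α := IntermediateField K Ω))
      (fun y hy => hbot y (hEc hy)) hind
  -- the uniformizer
  haveI hEfin : FiniteDimensional Y (IntermediateField.extendScalars hYE) := by
    haveI : FiniteDimensional Y.toSubfield φ.fieldRange := Module.Finite.equiv (AlgEquiv.ofInjectiveField φ).toLinearEquiv
    have : IntermediateField.extendScalars hYE ≤ φ.fieldRange := fun x hx => hEφ x hx
    exact FiniteDimensional.of_injective (IntermediateField.inclusion this).toLinearMap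
      fun a b h => Subtype.ext (congrArg Subtype.val h :)
  obtain ⟨hEdvr, SE, hSE⟩ := dvr_of_finite_intermediate W hYE
  haveI := hEdvr
  have hEperf : PerfectField (resField W E.toSubfield) := by
    haveI := perfectField_resField W Y.toSubfield p hYperf
    letI : Algebra (resField W Y.toSubfield) (resField W E.toSubfield) :=
      (Subfield.inclusion (resField_mono W (show Y.toSubfield ≤ E.toSubfield from hYE))).toAlgebra
    haveI : IsScalarTower (resField W Y.toSubfield) (resField W E.toSubfield) (ResidueField W) :=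
      IsScalarTower.of_algebraMap_eq fun _ => rfl
    haveI : Algebra.IsAlgebraic (resField W Y.toSubfield) (resField W E.toSubfield) := ⟨fun z => by
      obtain ⟨x, hx, hxW, hxz⟩ := (mem_resField W).1 z.2
      refine (isAlgebraic_algebraMap_iff (A := ResidueField W) Subtype.val_injective).1 ?_
      show IsAlgebraic (resField W Y.toSubfield) (z : ResidueField W)
      rw [← hxz]
      exact isAlgebraic_res W _ hxW (halgY x hx)⟩
    exact Algebra.IsAlgebraic.perfectField (resField W Y.toSubfield)
  obtain ⟨τ, hτ⟩ := IsDiscreteValuationRing.exists_irreducible (W.comap E.toSubfield.subtype)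
  set ϖ : Ω := ((τ : E.toSubfield) : Ω)
  have hϖ1 : W.valuation ϖ < 1 :=
    (valuation_lt_one_comap W E.toSubfield.subtype).1 ((ValuationSubring.valuation_lt_one_iff _ τ).1 hτ.not_isUnit)
  have hϖ0 : ϖ ≠ 0 := fun h => hτ.ne_zero (Subtype.ext (Subtype.ext h))
  have hϖmax : ∀ z ∈ E, W.valuation z < 1 → W.valuation z ≤ W.valuation ϖ := fun z hz hz1 => by
    let z' : W.comap E.toSubfield.subtype := ⟨⟨z, hz⟩, (W.valuation_le_one_iff z).1 hz1.le⟩
    have hmem : z' ∈ maximalIdeal (W.comap E.toSubfield.subtype) :=
      (ValuationSubring.valuation_lt_one_iff _ z').2 ((valuation_lt_one_comap W E.toSubfield.subtype).2 hz1)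
    obtain ⟨c, hc⟩ := Ideal.mem_span_singleton'.1 (hτ.maximalIdeal_eq ▸ hmem : z' ∈ Ideal.span {τ})
    rw [show z = ((c : E.toSubfield) : Ω) * ϖ from congrArg (fun w : W.comap E.toSubfield.subtype => ((w : E.toSubfield) : Ω)) hc.symm,
      map_mul]
    exact mul_le_of_le_one_left' ((W.valuation_le_one_iff _).2 c.2)
  -- the compositum
  let N := IntermediateField.adjoin L₁.toSubfield (Set.range φ)
  have halgN : ∀ z ∈ Set.range φ, IsAlgebraic L₁.toSubfield z := by
    rintro _ ⟨k, rfl⟩
    haveI : IsScalarTower Y.toSubfield L₁.toSubfield Ω := IsScalarTower.of_algebraMap_eq fun _ => rfl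
    exact (((Algebra.IsIntegral.isIntegral (R := Y.toSubfield) k).map φ).isAlgebraic).extendScalars
      (algebraMap Y.toSubfield L₁.toSubfield).injective
  letI : Algebra K₁ N := ((φ : K₁ →+* Ω).codRestrict N fun k => subset_adjoin _ _ ⟨k, rfl⟩).toAlgebra
  letI : Algebra Y.toSubfield N := ((algebraMap L₁.toSubfield N).comp (algebraMap Y.toSubfield L₁.toSubfield)).toAlgebra
  haveI : IsScalarTower Y.toSubfield L₁.toSubfield N := IsScalarTower.of_algebraMap_eq fun _ => rfl
  haveI : IsScalarTower Y.toSubfield K₁ N := IsScalarTower.of_algebraMap_eq fun c => Subtype.ext (φ.commutes c).symm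
  have hgen : Algebra.adjoin L₁.toSubfield (Set.range (algebraMap K₁ N)) = ⊤ :=
    adjoin_eq_top_of_intermediate N rfl halgN _ fun x hx hxS => by
      obtain ⟨k, rfl⟩ := hxS
      exact Algebra.subset_adjoin ⟨k, rfl⟩
  have hWN : EtRam.Dominates B ((algebraMap L₁.toSubfield N).comp (algebraMap B L₁.toSubfield)) (W.comap (algebraMap N Ω)) :=
    ⟨fun b => b.2, fun b hb => (valuation_lt_one_comap W (algebraMap N Ω)).2
      (show W.valuation ((b : L₁.toSubfield) : Ω) < 1 from
        (valuation_lt_one_comap W L₁.toSubfield.subtype).1 ((ValuationSubring.valuation_lt_one_iff _ b).1 hb))⟩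
  have hwu := hws N hgen _ hWN
  have hsub : ∀ x ∈ Lf ⊔ E, x ∈ N := by
    have : Lf ⊔ E ≤ (N.toSubfield.toIntermediateField fun c =>
        N.algebraMap_mem (⟨_, L₁.algebraMap_mem c⟩ : L₁.toSubfield) : IntermediateField K Ω) := by
      refine sup_le (fun x hx => N.algebraMap_mem (⟨x, (le_sup_left : Lf ≤ L₁) hx⟩ : L₁.toSubfield))
        (adjoin_le_iff.2 (Set.union_subset (fun x hx => N.algebraMap_mem (⟨x, hYL₁ hx⟩ : L₁.toSubfield)) ?_))
      exact subset_adjoin _ _
    exact fun x hx => this hx
  let ET : IntermediateField K Ω := (adjoin E (Set.range T)).restrictScalars K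
  refine ⟨E, hEc, hEperf, hindE, hEdvr, finite_sup hL fun x hx => isAlgebraic_adjoin_base T (halg x hx),
    ϖ, (τ : E.toSubfield).2, hϖ0, hϖ1, fun x hx hx1 => ?_⟩
  set V := W.comap (algebraMap N Ω)
  set f := algebraMap K₁ N
  let x' : V := ⟨⟨x, hsub x hx⟩, (W.valuation_le_one_iff x).1 hx1.le⟩
  have hx' : x' ∈ maximalIdeal V :=
    (ValuationSubring.valuation_lt_one_iff _ x').2 ((valuation_lt_one_comap W (algebraMap N Ω)).2 hx1)
  letI : Algebra (V.comap f) V := (EtRam.inclOfComap V f).toAlgebra
  rw [← (hwu : EtRam.IsWeaklyUnramified (V.comap f) V)] at hx'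
  suffices h : ∀ y ∈ (maximalIdeal (V.comap f)).map (algebraMap (V.comap f) V), W.valuation ((y : N) : Ω) ≤ W.valuation ϖ from
    h x' hx'
  intro y hy
  unfold Ideal.map Ideal.span at hy
  induction hy using Submodule.span_induction with
  | mem y hy =>
    obtain ⟨a, ha, rfl⟩ := hy
    refine hϖmax (φ (a : K₁)) (hφE _) ?_
    exact (valuation_lt_one_comap W (algebraMap N Ω)).1 ((valuation_lt_one_comap V f).1
      ((ValuationSubring.valuation_lt_one_iff _ a).1 ha))
  | zero => simp
  | add a b _ _ ha hb => rw [AddMemClass.coe_add, AddMemClass.coe_add]; exact W.valuation.map_add_le ha hb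
  | smul c a _ ha =>
    rw [smul_eq_mul, MulMemClass.coe_mul, MulMemClass.coe_mul, map_mul]
    exact (mul_le_of_le_one_left' ((W.valuation_le_one_iff _).2 c.2)).trans ha

end Groth.Agent.EtRam7.Sol
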